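import Cfsg.Agent.H278.Cov.Defs
import Cfsg.Agent.H884.ElO8
import Cfsg.Agent.H264.FKS.ResCore
import Cfsg.Agent.H264.FKS.TwoCl

/-!
# COV-O8+: the group `PΩ⁺₈(q)` is not the union of the conjugates of two proper subgroups: definitions (helper708)

`V = F ^ (Fin 4 ⊕ Fin 4)` with the form `quadPlus 4 F`; `r` a primitive prime divisor of `p ^ (4 a) - 1`, `q = p ^ a`.
-/

set_option autoImplicit false

namespace Cfsg.Agent.H708.O8

open Module QuadraticMap Cfsg Cfsg.Geo Cfsg.Agent.LieClassical.OrthCore Cfsg.Agent.H955 Cfsg.Agent.H954.TSing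
open Cfsg.Agent.LieClassical.OmegaReindex
open Cfsg.Agent.H951 (fx cm Inv)
open Cfsg.Agent.H884.El
open Cfsg.Agent.H436 (Prim)
open scoped MatrixGroups Matrix

/-- the index type -/
abbrev I8 : Type := Fin 4 ⊕ Fin 4

/-- the group -/
abbrev T8 (F : Type) [Field F] [Fintype F] : Type := POmega F (quadFormPlus 4 F)

/-- the numbers: `q = p ^ a`, `r` is a primitive prime divisor of `p ^ (4 a) - 1`, `r ^ b` the exact power dividing
`q² + 1` -/
structure RB (p a r b : ℕ) : Prop where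
  hp : p.Prime
  ha : 1 ≤ a
  prim : Prim p (4 * a) r
  dvd : r ^ b ∣ p ^ (2 * a) + 1
  not_dvd : ¬ r ^ (b + 1) ∣ p ^ (2 * a) + 1
  cases : (13 ≤ r ∧ 1 ≤ b) ∨ (r = 5 ∧ 2 ≤ b ∧ 7 ≤ p ∧ a = 1) ∨ (r = 5 ∧ b = 1 ∧ (p = 2 ∨ p = 3) ∧ a = 1)

/-- type `A`: `u` of prime order `r`, `dim [V, u] = 4`; `w` an isometry of odd order `s` prime to `r`, trivial on
`[V, u]` (hence `u w = w u`); either `(w - 1)²` has rank one or `w` has prime order `l`, `l ∣ q + 1`, and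
`dim [V, w] = 2`. -/
structure TypeA {F : Type} [Field F] [Fintype F] (u w : GL I8 F) (r s : ℕ) : Prop where
  u_mem : u ∈ isometryGroup F (quadFormPlus 4 F)
  w_mem : w ∈ isometryGroup F (quadFormPlus 4 F)
  u_pow : u ^ r = 1
  u_ne : u ≠ 1
  u_dim : finrank F (cm (lin u)) = 4
  comm : u * w = w * u
  triv : ∀ v ∈ cm (lin u), lin w v = v
  w_pow : w ^ s = 1
  odd : Odd s
  cop : Nat.Coprime r s
  ord : (Nat.card F = 2 ∨ Nat.card F = 3) → s = 3 ∧ w ≠ 1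
  sharp : finrank F (LinearMap.range ((lin w - 1) ^ 2)) = 1 ∨
    (PP (Nat.card F) 2 s ∧ finrank F (cm (lin w)) = 2)

/-- type `B`: `y = x²` leaves only `⊥, X, Y, ⊤` invariant, `X`, `Y` totally singular of dimension four -/
structure TypeB {F : Type} [Field F] [Fintype F] (x : GL I8 F) (X Y : Submodule F (I8 → F)) (r b : ℕ) : Prop where
  mem : x ∈ omegaGL (quadFormPlus 4 F)
  tsX : ∀ v ∈ X, quadFormPlus 4 F v = 0
  tsY : ∀ v ∈ Y, quadFormPlus 4 F v = 0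
  dimX : finrank F X = 4
  dimY : finrank F Y = 4
  compl : IsCompl X Y
  invX : Inv (lin x) X
  invY : Inv (lin x) Y
  only : ∀ W : Submodule F (I8 → F), Inv (lin (x ^ 2)) W → W = ⊥ ∨ W = X ∨ W = Y ∨ W = ⊤
  /-- the `r`-part -/
  m : ∃ m : ℕ, Nat.Coprime r m ∧ x ^ (r ^ b * m) = 1 ∧ cm (lin (x ^ (r ^ (b - 1) * m))) = ⊤
  ord : (Nat.card F = 2 → orderOf x = 15) ∧ (Nat.card F = 3 → orderOf x = 40 ∧ ((x ^ 20 : GL I8 F) : Matrix I8 I8 F) = -1)

end Cfsg.Agent.H708.O8
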