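import Cfsg.Agent.H708.O8.Defs
import Cfsg.Agent.ClassicalGeometry.TwoFamilies

/-!
# COV-O8+: the two families of maximal totally singular subspaces (helper708)
-/

set_option autoImplicit false

namespace Cfsg.Agent.H708.O8

open Module QuadraticMap Cfsg Cfsg.Geo Cfsg.Agent.LieClassical.OrthCore Cfsg.Agent.H955 Cfsg.Agent.H954.TSing
open Cfsg.Agent.LieClassical.OmegaReindex
open Cfsg.Agent.H951 (fx cm Inv)
open Cfsg.Agent.H884.El
open Cfsg.Agent.H436 (Prim)
open scoped MatrixGroups Matrix

/-- the standard totally singular subspaces -/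
def XX (F : Type) [Field F] : Submodule F (I8 → F) where
  carrier := {v | ∀ i, v (.inr i) = 0}
  add_mem' := fun {x y} hx hy i => by rw [Pi.add_apply, hx, hy, add_zero]
  zero_mem' := fun _ => rfl
  smul_mem' := fun c x hx i => by rw [Pi.smul_apply, hx, smul_zero]

def YY (F : Type) [Field F] : Submodule F (I8 → F) where
  carrier := {v | ∀ i, v (.inl i) = 0}
  add_mem' := fun {x y} hx hy i => by rw [Pi.add_apply, hx, hy, add_zero]
  zero_mem' := fun _ => rfl
  smul_mem' := fun c x hx i => by rw [Pi.smul_apply, hx, smul_zero]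

section

variable {F : Type} [Field F]

theorem mem_XX {v : I8 → F} : v ∈ XX F ↔ ∀ i, v (.inr i) = 0 := Iff.rfl

theorem mem_YY {v : I8 → F} : v ∈ YY F ↔ ∀ i, v (.inl i) = 0 := Iff.rfl

theorem ts_XX : ∀ v ∈ XX F, quadFormPlus 4 F v = 0 := fun v hv => by
  unfold quadFormPlus
  exact Finset.sum_eq_zero fun i _ => by rw [hv i, mul_zero]

theorem ts_YY : ∀ v ∈ YY F, quadFormPlus 4 F v = 0 := fun v hv => by
  unfold quadFormPlus
  exact Finset.sum_eq_zero fun i _ => by rw [hv i, zero_mul]

/-- `XX` is `F⁴` -/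
noncomputable def eX (F : Type) [Field F] : XX F ≃ₗ[F] (Fin 4 → F) where
  toFun v i := (v : I8 → F) (.inl i)
  map_add' _ _ := rfl
  map_smul' _ _ := rfl
  invFun w := ⟨Sum.elim w 0, fun _ => rfl⟩
  left_inv v := Subtype.ext (funext fun j => by
    rcases j with j | j
    · rfl
    · exact (v.2 j).symm)
  right_inv _ := rfl

noncomputable def eY (F : Type) [Field F] : YY F ≃ₗ[F] (Fin 4 → F) where
  toFun v i := (v : I8 → F) (.inr i)
  map_add' _ _ := rfl
  map_smul' _ _ := rfl
  invFun w := ⟨Sum.elim 0 w, fun _ => rfl⟩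
  left_inv v := Subtype.ext (funext fun j => by
    rcases j with j | j
    · exact (v.2 j).symm
    · rfl)
  right_inv _ := rfl

theorem finrank_XX : finrank F (XX F) = 4 := by
  rw [(eX F).finrank_eq, Module.finrank_fin_fun]

theorem finrank_YY : finrank F (YY F) = 4 := by
  rw [(eY F).finrank_eq, Module.finrank_fin_fun]

theorem isCompl_XX : IsCompl (XX F) (YY F) := by
  constructor
  · rw [Submodule.disjoint_def]
    intro v h1 h2
    funext j
    rcases j with j | j
    · exact h2 j
    · exact h1 j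
  · rw [codisjoint_iff, eq_top_iff]
    intro v _
    rw [Submodule.mem_sup]
    refine ⟨Sum.elim (fun i => v (.inl i)) 0, fun _ => rfl, Sum.elim 0 (fun i => v (.inr i)), fun _ => rfl, ?_⟩
    funext j
    rcases j with j | j
    · exact add_zero _
    · exact zero_add _

/-- parity of three intersections -/
theorem even_three {U W X : Submodule F (I8 → F)} (hU : finrank F U = 4) (hW : finrank F W = 4)
    (hX : finrank F X = 4) (hU0 : ∀ v ∈ U, quadFormPlus 4 F v = 0) (hW0 : ∀ v ∈ W, quadFormPlus 4 F v = 0)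
    (hX0 : ∀ v ∈ X, quadFormPlus 4 F v = 0) :
    Even (finrank F ↥(U ⊓ W) + finrank F ↥(W ⊓ X) + finrank F ↥(U ⊓ X)) := by
  have h := Cfsg.Agent.ClassicalGeometry.TwoFamilies.even_intersections (B := polarBilin (quadPlus 4 F))
    (quadFormPlus 4 F) (fun u w => by
      rw [← coe_quadPlus, polarBilin_apply_apply]
      exact QuadraticMap.map_add (quadPlus 4 F) u w) quadPlus_nondegenerate
    (fun x y hxy => by
      rw [polarBilin_apply_apply] at hxy ⊢
      rw [polar_comm]
      exact hxy) 4 (by simp) U W X hU hW hX hU0 hW0 hX0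
  have h4 : Even 4 := by decide
  exact (Nat.even_add.1 h).2 h4

variable (F)

theorem mem_iso {g : GL I8 F} : g ∈ isometryGroup F (quadFormPlus 4 F) ↔
    ∀ v, quadFormPlus 4 F (Matrix.toLin' (g : Matrix I8 I8 F) v) = quadFormPlus 4 F v := by
  rw [H925.mem_iso_iff]
  rfl

variable {F}

theorem lin_mul (g h : GL I8 F) : lin (g * h) = lin g * lin h := by
  rw [lin, lin, lin, Units.val_mul, Matrix.toLin'_mul]
  rfl

theorem lin_one' : lin (1 : GL I8 F) = 1 := by
  rw [lin, Units.val_one, Matrix.toLin'_one]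
  rfl

theorem lin_inv_lin (g : GL I8 F) (v : I8 → F) : lin g⁻¹ (lin g v) = v := by
  rw [← Module.End.mul_apply, ← lin_mul, inv_mul_cancel, lin_one']
  rfl

theorem lin_lin_inv (g : GL I8 F) (v : I8 → F) : lin g (lin g⁻¹ v) = v := by
  rw [← Module.End.mul_apply, ← lin_mul, mul_inv_cancel, lin_one']
  rfl

theorem lin_inj (g : GL I8 F) : Function.Injective (lin g) := fun v w h => by
  rw [← lin_inv_lin g v, h, lin_inv_lin]

/-- the translate of a subspace -/
def tr (g : GL I8 F) (X : Submodule F (I8 → F)) : Submodule F (I8 → F) := X.map (lin g)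

theorem tr_mul (g h : GL I8 F) (X : Submodule F (I8 → F)) : tr (g * h) X = tr g (tr h X) := by
  unfold tr
  rw [lin_mul, ← Submodule.map_comp]
  rfl

theorem tr_one (X : Submodule F (I8 → F)) : tr 1 X = X := by
  unfold tr
  rw [lin_one']
  exact Submodule.map_id X

theorem mem_tr {g : GL I8 F} {X : Submodule F (I8 → F)} {v : I8 → F} : v ∈ tr g X ↔ lin g⁻¹ v ∈ X := by
  constructor
  · rintro ⟨w, hw, rfl⟩
    rw [lin_inv_lin]
    exact hw
  · intro h
    exact ⟨_, h, lin_lin_inv g v⟩

theorem tr_inf (g : GL I8 F) (X Y : Submodule F (I8 → F)) : tr g (X ⊓ Y) = tr g X ⊓ tr g Y := by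
  ext v
  rw [Submodule.mem_inf, mem_tr, mem_tr, mem_tr, Submodule.mem_inf]

theorem finrank_tr (g : GL I8 F) (X : Submodule F (I8 → F)) : finrank F (tr g X) = finrank F X :=
  (Submodule.equivMapOfInjective (lin g) (lin_inj g) X).finrank_eq.symm

theorem ts_tr {g : GL I8 F} (hg : g ∈ isometryGroup F (quadFormPlus 4 F)) {X : Submodule F (I8 → F)}
    (hX : ∀ v ∈ X, quadFormPlus 4 F v = 0) : ∀ v ∈ tr g X, quadFormPlus 4 F v = 0 := by
  rintro _ ⟨w, hw, rfl⟩
  rw [(mem_iso F).1 hg]
  exact hX w hw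

/-- the parity of `dim (X ∩ g X)` as a homomorphism -/
noncomputable def par (F : Type) [Field F] : isometryGroup F (quadFormPlus 4 F) →* Multiplicative (ZMod 2) where
  toFun g := Multiplicative.ofAdd ((finrank F ↥(XX F ⊓ tr (g : GL I8 F) (XX F)) : ℕ) : ZMod 2)
  map_one' := by
    rw [OneMemClass.coe_one, tr_one, inf_idem, finrank_XX]
    rfl
  map_mul' g h := by
    rw [← ofAdd_add]
    congr 1
    have h1 := even_three (F := F) finrank_XX ((finrank_tr (g : GL I8 F) _).trans finrank_XX)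
      ((finrank_tr ((g : GL I8 F) * (h : GL I8 F)) _).trans finrank_XX) ts_XX (ts_tr g.2 ts_XX)
      (ts_tr (mul_mem g.2 h.2) ts_XX)
    rw [tr_mul, ← tr_inf, finrank_tr, ← tr_mul, ← ZMod.natCast_eq_zero_iff_even, Nat.cast_add, Nat.cast_add] at h1
    have h2 : ∀ x y z : ZMod 2, x + y + z = 0 → z = x + y := by decide
    exact h2 _ _ _ h1

theorem par_omega {g : isometryGroup F (quadFormPlus 4 F)} (hg : g ∈ Omega F (quadFormPlus 4 F)) :
    par F g = 1 := by
  have h : Omega F (quadFormPlus 4 F) ≤ (par F).ker := Abelianization.commutator_subset_ker _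
  exact h hg

theorem even_of_omega {g : GL I8 F} (hg : g ∈ omegaGL (quadFormPlus 4 F)) :
    Even (finrank F ↥(XX F ⊓ tr g (XX F))) := by
  obtain ⟨x, hx, rfl⟩ := hg
  have h := par_omega hx
  rw [← ZMod.natCast_eq_zero_iff_even]
  exact h

/-- the swap of two coordinates -/
noncomputable def rho (F : Type) [Field F] : GL I8 F :=
  (Matrix.GeneralLinearGroup.mk'' (Equiv.Perm.permMatrix F (Equiv.swap (Sum.inl 0 : I8) (Sum.inr 0)))
    (by
      rw [Matrix.det_permutation]
      rcases Int.units_eq_one_or (Equiv.Perm.sign (Equiv.swap (Sum.inl 0 : I8) (Sum.inr 0))) with h | h <;> rw [h] <;> simp))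

theorem lin_rho (v : I8 → F) : lin (rho F) v = v ∘ Equiv.swap (Sum.inl 0 : I8) (Sum.inr 0) := by
  funext j
  rw [lin, Matrix.toLin'_apply]
  change (Equiv.Perm.permMatrix F (Equiv.swap (Sum.inl 0 : I8) (Sum.inr 0))).mulVec v j = _
  rw [Matrix.permMatrix_mulVec]

theorem rho_mem : rho F ∈ isometryGroup F (quadFormPlus 4 F) := by
  rw [mem_iso]
  intro v
  have h : Matrix.toLin' ((rho F : GL I8 F) : Matrix I8 I8 F) v = v ∘ Equiv.swap (Sum.inl 0 : I8) (Sum.inr 0) :=
    lin_rho v
  rw [h]
  unfold quadFormPlus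
  refine Finset.sum_congr rfl fun i _ => ?_
  simp only [Function.comp_apply]
  by_cases hi : i = 0
  · subst hi
    rw [Equiv.swap_apply_left, Equiv.swap_apply_right, mul_comm]
  · rw [Equiv.swap_apply_of_ne_of_ne, Equiv.swap_apply_of_ne_of_ne] <;> simp [hi]

theorem finrank_XX_rho : finrank F ↥(XX F ⊓ tr (rho F) (XX F)) = 3 := by
  have hinv : ∀ v : I8 → F, lin (rho F)⁻¹ v = v ∘ Equiv.swap (Sum.inl 0 : I8) (Sum.inr 0) := by
    intro v
    apply lin_inj (rho F)
    rw [lin_lin_inv, lin_rho]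
    funext j
    simp
  let e : ↥(XX F ⊓ tr (rho F) (XX F)) ≃ₗ[F] (Fin 3 → F) :=
    { toFun := fun v i => (v : I8 → F) (.inl i.succ)
      map_add' := fun _ _ => rfl
      map_smul' := fun _ _ => rfl
      invFun := fun w => ⟨Sum.elim (Fin.cons 0 w) 0, by
        refine ⟨fun _ => rfl, mem_tr.2 ?_⟩
        rw [hinv]
        intro i
        simp only [Function.comp_apply]
        by_cases hi : i = 0
        · subst hi
          rw [Equiv.swap_apply_right]
          rfl
        · rw [Equiv.swap_apply_of_ne_of_ne (by simp) (by simp [hi])]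
          rfl⟩
      left_inv := fun v => Subtype.ext (funext fun j => by
        rcases j with j | j
        · refine Fin.cases ?_ (fun i => ?_) j
          · have h1 := mem_tr.1 v.2.2
            rw [hinv] at h1
            have h2 := h1 0
            simp only [Function.comp_apply, Equiv.swap_apply_right] at h2
            exact h2.symm
          · rfl
        · exact (v.2.1 j).symm)
      right_inv := fun _ => rfl }
  rw [e.finrank_eq, Module.finrank_fin_fun]

/-- **T1**: `dim (X ∩ h ρ X)` is odd for `h ∈ Ω`. -/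
theorem odd_inter {h : GL I8 F} (hh : h ∈ omegaGL (quadFormPlus 4 F)) :
    Odd (finrank F ↥(XX F ⊓ tr (h * rho F) (XX F))) := by
  obtain ⟨x, hx, rfl⟩ := hh
  have h1 := par_omega hx
  have h2 : par F (x * ⟨rho F, rho_mem⟩) = par F ⟨rho F, rho_mem⟩ := by rw [map_mul, h1, one_mul]
  rw [← Nat.not_even_iff_odd, ← ZMod.natCast_eq_zero_iff_even]
  have h3 : ((finrank F ↥(XX F ⊓ tr ((x : GL I8 F) * rho F) (XX F)) : ℕ) : ZMod 2) =
      ((finrank F ↥(XX F ⊓ tr (rho F) (XX F)) : ℕ) : ZMod 2) := h2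
  have h4 : ((isometryGroup F (quadFormPlus 4 F)).subtype x : GL I8 F) = (x : GL I8 F) := rfl
  rw [h4, h3, finrank_XX_rho]
  decide

end

end Cfsg.Agent.H708.O8
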