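import Cfsg.Agent.H708.O8.Par

/-!
# COV-O8+: quadratic fields and two elements of type `B` (helper708)
-/

set_option autoImplicit false
set_option linter.unusedSectionVars false

namespace Cfsg.Agent.H708.O8

open Module QuadraticMap Cfsg Cfsg.Geo Cfsg.Agent.LieClassical.OrthCore Cfsg.Agent.H955 Cfsg.Agent.H954.TSing
open Cfsg.Agent.LieClassical.OmegaReindex
open Cfsg.Agent.H951 (fx cm Inv)
open Cfsg.Agent.H884.El
open Cfsg.Agent.H436 (Prim)
open scoped MatrixGroups Matrix

/-- squares of elements normalising a quadratic field commute with it. -/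
theorem comm_sq {ι : Type} [Fintype ι] [DecidableEq ι] {F : Type} [Field F] [Fintype F] [Nonempty ι]
    {K : Subalgebra F (Matrix ι ι F)} (hK : IsFieldSubalgebra 2 K)
    {g : GL ι F} (hgK : g ∈ subalgebraNormalizer K) :
    ∀ x ∈ K, ((g ^ 2 : GL ι F) : Matrix ι ι F) * x = x * ((g ^ 2 : GL ι F) : Matrix ι ι F) := by
  have hN : H912.NormAlg (subalgebraNormalizer K) K := fun _ hh a ha => (hh a).mp ha
  let _ : Field K := (H912.isField_of_fieldSub hK).toField
  have hfd : Module.Finite F K := inferInstance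
  have hKfin : Finite K := Module.finite_of_finite F
  have hgal : IsGalois F K := inferInstance
  let σ : K ≃ₐ[F] K := H912.conjSub hN ⟨g, hgK⟩
  have hσk : ∀ (k : ℕ) (x : K), (((σ ^ k) x : K) : Matrix ι ι F) =
      ((g ^ k : GL ι F) : Matrix ι ι F) * x * (((g ^ k)⁻¹ : GL ι F) : Matrix ι ι F) := by
    intro k
    induction k with
    | zero => intro x; simp
    | succ k ih =>
      intro x
      rw [pow_succ, AlgEquiv.mul_apply, ih, H912.conjSub_coe, pow_succ, _root_.mul_inv_rev, Units.val_mul,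
        Units.val_mul]
      simp only [Matrix.mul_assoc]
  have hσ2 : σ ^ 2 = 1 := by
    have h3 : Nat.card (K ≃ₐ[F] K) = 2 := by
      rw [IsGalois.card_aut_eq_finrank, hK.finrank_eq]
    rw [← h3]
    exact pow_card_eq_one'
  intro x hx
  have h1 := hσk 2 ⟨x, hx⟩
  rw [hσ2] at h1
  have h3 : x = ((g ^ 2 : GL ι F) : Matrix ι ι F) * x * (((g ^ 2)⁻¹ : GL ι F) : Matrix ι ι F) := h1
  conv_rhs => rw [h3]
  rw [Matrix.mul_assoc, ← Units.val_mul, inv_mul_cancel, Units.val_one, Matrix.mul_one]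

section

variable {F : Type} [Field F] [Fintype F] {r b : ℕ}

/-- a quadratic field commuting with `x²` preserves `X` -/
theorem TypeB.field_inv {x : GL I8 F} {X Y : Submodule F (I8 → F)} (hB : TypeB x X Y r b)
    {K : Subalgebra F (Matrix I8 I8 F)} (hK : IsFieldSubalgebra 2 K)
    (hc : ∀ k ∈ K, ((x ^ 2 : GL I8 F) : Matrix I8 I8 F) * k = k * ((x ^ 2 : GL I8 F) : Matrix I8 I8 F)) :
    ∀ k ∈ K, ∀ v ∈ X, k *ᵥ v ∈ X := by
  -- the image of `X` under an invertible element of `K`
  have key : ∀ k ∈ K, k ≠ 0 → X.map (Matrix.toLin' k) = X ∨ X.map (Matrix.toLin' k) = Y := by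
    intro k hk hk0
    obtain ⟨l, hl, hkl⟩ := hK.inv k hk hk0
    have hlk : l * k = 1 := by rw [hK.comm l hl k hk, hkl]
    have hinj : Function.Injective (Matrix.toLin' k) := by
      intro v w hvw
      rw [Matrix.toLin'_apply, Matrix.toLin'_apply] at hvw
      have h1 : l *ᵥ (k *ᵥ v) = l *ᵥ (k *ᵥ w) := by rw [hvw]
      rwa [Matrix.mulVec_mulVec, Matrix.mulVec_mulVec, hlk, Matrix.one_mulVec, Matrix.one_mulVec] at h1
    have hfin : finrank F (X.map (Matrix.toLin' k)) = 4 := by
      rw [H955.finrank_map_of_injective _ hinj, hB.dimX]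
    have hinv : Inv (lin (x ^ 2)) (X.map (Matrix.toLin' k)) := by
      rintro _ ⟨w, hw, rfl⟩
      refine ⟨lin (x ^ 2) w, ?_, ?_⟩
      · have : lin (x ^ 2) = lin x ^ 2 := by rw [pow_two, pow_two, lin_mul]
        rw [this, pow_two, Module.End.mul_apply]
        exact hB.invX _ (hB.invX _ hw)
      · rw [lin, Matrix.toLin'_apply, Matrix.toLin'_apply, Matrix.toLin'_apply, Matrix.toLin'_apply,
          Matrix.mulVec_mulVec, Matrix.mulVec_mulVec, hc k hk]
    rcases hB.only _ hinv with h | h | h | h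
    · rw [h, finrank_bot] at hfin
      omega
    · exact Or.inl h
    · exact Or.inr h
    · rw [h, finrank_top, finrank_V] at hfin
      simp at hfin
  intro k hk v hv
  by_cases hk0 : k = 0
  · rw [hk0, Matrix.zero_mulVec]
    exact X.zero_mem
  rcases key k hk hk0 with h | h
  · rw [← h]
    exact ⟨v, hv, by rw [Matrix.toLin'_apply]⟩
  · exfalso
    -- `1 + k`
    have hdis := Submodule.disjoint_def.1 hB.compl.disjoint
    have hX0 : X ≠ ⊥ := by
      intro h0
      have := hB.dimX
      rw [h0, finrank_bot] at this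
      omega
    obtain ⟨w, hw, hw0⟩ := Submodule.exists_mem_ne_zero_of_ne_bot hX0
    have hkw : k *ᵥ w ∈ Y := by
      rw [← h]
      exact ⟨w, hw, by rw [Matrix.toLin'_apply]⟩
    have hkw0 : k *ᵥ w ≠ 0 := by
      intro h0
      obtain ⟨l, hl, hkl⟩ := hK.inv k hk hk0
      have hlk : l * k = 1 := by rw [hK.comm l hl k hk, hkl]
      have h1 : l *ᵥ (k *ᵥ w) = l *ᵥ 0 := by rw [h0]
      rw [Matrix.mulVec_mulVec, hlk, Matrix.one_mulVec, Matrix.mulVec_zero] at h1
      exact hw0 h1
    have h1k : (1 + k) ∈ K := K.add_mem K.one_mem hk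
    have h1k0 : (1 + k) ≠ 0 := by
      intro h0
      have h2 : k = -1 := by
        rw [add_comm] at h0
        exact eq_neg_of_add_eq_zero_left h0
      apply hkw0
      refine hdis _ ?_ hkw
      rw [h2, Matrix.neg_mulVec, Matrix.one_mulVec]
      exact X.neg_mem hw
    have hmem : (1 + k) *ᵥ w ∈ X.map (Matrix.toLin' (1 + k)) := ⟨w, hw, by rw [Matrix.toLin'_apply]⟩
    rw [Matrix.add_mulVec, Matrix.one_mulVec] at hmem
    rcases key _ h1k h1k0 with h3 | h3
    · rw [h3] at hmem
      have h4 : k *ᵥ w ∈ X := by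
        have := X.sub_mem hmem hw
        rwa [add_sub_cancel_left] at this
      exact hkw0 (hdis _ h4 hkw)
    · rw [h3] at hmem
      have h4 : w ∈ Y := by
        have := Y.sub_mem hmem hkw
        rwa [add_sub_cancel_right] at this
      exact hw0 (hdis _ hw h4)

/-- **G3**: two elements of type `B` with `dim (X ∩ X')` odd. -/
theorem kill_field_B {K : Subalgebra F (Matrix I8 I8 F)} (hK : IsFieldSubalgebra 2 K) {H : Subgroup (GL I8 F)}
    (hHK : H ≤ subalgebraNormalizer K) {x x' : GL I8 F} {X Y X' Y' : Submodule F (I8 → F)}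
    (hB : TypeB x X Y r b) (hB' : TypeB x' X' Y' r b) (hx : x ∈ H) (hx' : x' ∈ H)
    (hodd : Odd (finrank F ↥(X ⊓ X'))) : False := by
  have h1 := hB.field_inv hK (comm_sq hK (hHK hx))
  have h2 := hB'.field_inv hK (comm_sq hK (hHK hx'))
  have h3 := even_of_field hK (W := X ⊓ X') fun k hk w hw => ⟨h1 k hk w hw.1, h2 k hk w hw.2⟩
  exact (Nat.not_even_iff_odd.2 hodd) h3

end

end Cfsg.Agent.H708.O8
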