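import Cfsg.Agent.H708.O8.Geo
import Cfsg.Agent.H708.O8.FieldB

/-!
# COV-O8+: conjugates, lifts, separation of the elements of order `r` (helper708)
-/

set_option autoImplicit false
set_option linter.unusedSectionVars false

namespace Cfsg.Agent.H708.O8

open Module QuadraticMap Cfsg Cfsg.Geo Cfsg.Agent.LieClassical.OrthCore Cfsg.Agent.H955 Cfsg.Agent.H954.TSing
open Cfsg.Agent.LieClassical.OmegaReindex
open Cfsg.Agent.H951 (fx cm Inv)
open Cfsg.Agent.H884.El
open Cfsg.Agent.H436 (Prim)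
open Cfsg.Agent.H264.FKS (Cyc mem_zpowers_of_cyclic)
open scoped MatrixGroups Matrix

section

variable {F : Type} [Field F] [Fintype F] {p a r b s : ℕ}

theorem mem_fx_tr {c g : GL I8 F} {v : I8 → F} : v ∈ fx (lin (c * g * c⁻¹)) ↔ lin c⁻¹ v ∈ fx (lin g) := by
  rw [H951.mem_fx, H951.mem_fx, lin_mul, lin_mul, Module.End.mul_apply, Module.End.mul_apply]
  constructor
  · intro h
    rw [← lin_inv_lin c (lin g (lin c⁻¹ v)), h]
  · intro h
    rw [h, lin_lin_inv]

theorem cm_conj (c g : GL I8 F) : cm (lin (c * g * c⁻¹)) = tr c (cm (lin g)) := by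
  ext v
  rw [mem_tr, H951.mem_cm, H951.mem_cm]
  constructor
  · rintro ⟨w, rfl⟩
    refine ⟨lin c⁻¹ w, ?_⟩
    rw [lin_mul, lin_mul, Module.End.mul_apply, Module.End.mul_apply, map_sub, lin_inv_lin]
  · rintro ⟨w, hw⟩
    refine ⟨lin c w, ?_⟩
    rw [lin_mul, lin_mul, Module.End.mul_apply, Module.End.mul_apply, lin_inv_lin, ← map_sub, hw, lin_lin_inv]

theorem inv_conj {c g : GL I8 F} {W : Submodule F (I8 → F)} : Inv (lin (c * g * c⁻¹)) (tr c W) ↔ Inv (lin g) W := by
  constructor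
  · intro h w hw
    have h1 := h (lin c w) ⟨w, hw, rfl⟩
    rw [lin_mul, lin_mul, Module.End.mul_apply, Module.End.mul_apply, lin_inv_lin, mem_tr, lin_inv_lin] at h1
    exact h1
  · rintro h _ ⟨w, hw, rfl⟩
    rw [lin_mul, lin_mul, Module.End.mul_apply, Module.End.mul_apply, lin_inv_lin]
    exact ⟨_, h w hw, rfl⟩

theorem omega_conj {c g : GL I8 F} (hc : c ∈ isometryGroup F (quadFormPlus 4 F))
    (hg : g ∈ omegaGL (quadFormPlus 4 F)) : c * g * c⁻¹ ∈ omegaGL (quadFormPlus 4 F) := by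
  obtain ⟨x, hx, rfl⟩ := Subgroup.mem_map.1 hg
  have hn : (Omega F (quadFormPlus 4 F)).Normal := inferInstance
  refine Subgroup.mem_map.2 ⟨⟨c, hc⟩ * x * ⟨c, hc⟩⁻¹, hn.conj_mem x hx _, ?_⟩
  rw [map_mul, map_mul, map_inv]
  rfl

theorem tr_top (c : GL I8 F) : tr c ⊤ = ⊤ := by
  rw [eq_top_iff]
  intro v _
  exact mem_tr.2 Submodule.mem_top

theorem tr_bot (c : GL I8 F) : tr c ⊥ = ⊥ := Submodule.map_bot _

theorem tr_inv_tr (c : GL I8 F) (W : Submodule F (I8 → F)) : tr c (tr c⁻¹ W) = W := by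
  rw [← tr_mul, mul_inv_cancel, tr_one]

theorem TypeB.conj {x : GL I8 F} {X Y : Submodule F (I8 → F)} (hB : TypeB x X Y r b) {c : GL I8 F}
    (hc : c ∈ isometryGroup F (quadFormPlus 4 F)) : TypeB (c * x * c⁻¹) (tr c X) (tr c Y) r b where
  mem := omega_conj hc hB.mem
  tsX := ts_tr hc hB.tsX
  tsY := ts_tr hc hB.tsY
  dimX := (finrank_tr c X).trans hB.dimX
  dimY := (finrank_tr c Y).trans hB.dimY
  compl := by
    constructor
    · rw [disjoint_iff, ← tr_inf, hB.compl.inf_eq_bot, tr_bot]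
    · rw [codisjoint_iff]
      unfold tr
      rw [← Submodule.map_sup, hB.compl.sup_eq_top]
      exact tr_top c
  invX := inv_conj.2 hB.invX
  invY := inv_conj.2 hB.invY
  only := by
    intro W hW
    rw [conj_pow, ← tr_inv_tr c W, inv_conj] at hW
    rcases hB.only _ hW with h | h | h | h
    · left
      rw [← tr_inv_tr c W, h, tr_bot]
    · right; left
      rw [← tr_inv_tr c W, h]
    · right; right; left
      rw [← tr_inv_tr c W, h]
    · right; right; right
      rw [← tr_inv_tr c W, h, tr_top]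
  m := by
    obtain ⟨m, h1, h2, h3⟩ := hB.m
    refine ⟨m, h1, ?_, ?_⟩
    · rw [conj_pow, h2, mul_one, mul_inv_cancel]
    · rw [conj_pow, cm_conj, h3, tr_top]
  ord := by
    have h1 : orderOf (c * x * c⁻¹) = orderOf x :=
      orderOf_injective (MulAut.conj c).toMonoidHom (MulAut.conj c).injective x
    refine ⟨fun h => by rw [h1]; exact hB.ord.1 h, fun h => ⟨by rw [h1]; exact (hB.ord.2 h).1, ?_⟩⟩
    rw [conj_pow, Units.val_mul, Units.val_mul, (hB.ord.2 h).2, mul_neg, mul_one, neg_mul, ← Units.val_mul,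
      mul_inv_cancel, Units.val_one]

theorem TypeA.conj {u w : GL I8 F} (hA : TypeA u w r s) {c : GL I8 F}
    (hc : c ∈ isometryGroup F (quadFormPlus 4 F)) : TypeA (c * u * c⁻¹) (c * w * c⁻¹) r s where
  u_mem := mul_mem (mul_mem hc hA.u_mem) (inv_mem hc)
  w_mem := mul_mem (mul_mem hc hA.w_mem) (inv_mem hc)
  u_pow := by rw [conj_pow, hA.u_pow, mul_one, mul_inv_cancel]
  u_ne := fun h => hA.u_ne (conj_eq_one_iff.1 h)
  u_dim := by rw [cm_conj, finrank_tr, hA.u_dim]
  comm := by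
    have : c * u * c⁻¹ * (c * w * c⁻¹) = c * (u * w) * c⁻¹ := by group
    rw [this, hA.comm]
    group
  triv := by
    intro v hv
    rw [cm_conj, mem_tr] at hv
    rw [lin_mul, lin_mul, Module.End.mul_apply, Module.End.mul_apply, hA.triv _ hv, lin_lin_inv]
  w_pow := by rw [conj_pow, hA.w_pow, mul_one, mul_inv_cancel]
  odd := hA.odd
  cop := hA.cop
  ord := fun h => ⟨(hA.ord h).1, fun h1 => (hA.ord h).2 (conj_eq_one_iff.1 h1)⟩
  sharp := by
    rcases hA.sharp with h | ⟨h1, h2⟩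
    · left
      rw [← h]
      have key : LinearMap.range ((lin (c * w * c⁻¹) - 1) ^ 2) = tr c (LinearMap.range ((lin w - 1) ^ 2)) := by
        have e : ∀ v, ((lin (c * w * c⁻¹) - 1) ^ 2 : Module.End F (I8 → F)) v =
            lin c (((lin w - 1) ^ 2 : Module.End F (I8 → F)) (lin c⁻¹ v)) := by
          intro v
          have e1 : ∀ v, (lin (c * w * c⁻¹) - 1 : Module.End F (I8 → F)) v =
              lin c ((lin w - 1 : Module.End F (I8 → F)) (lin c⁻¹ v)) := fun v => by
            rw [LinearMap.sub_apply, LinearMap.sub_apply, map_sub, lin_mul, lin_mul, Module.End.mul_apply,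
              Module.End.mul_apply, Module.End.one_apply, Module.End.one_apply, lin_lin_inv]
          rw [pow_two, pow_two, Module.End.mul_apply, Module.End.mul_apply, e1, e1, lin_inv_lin]
        ext v
        constructor
        · rintro ⟨w', rfl⟩
          rw [e]
          exact ⟨_, ⟨_, rfl⟩, rfl⟩
        · rintro ⟨_, ⟨w', rfl⟩, rfl⟩
          refine ⟨lin c w', ?_⟩
          rw [e, lin_inv_lin]
      rw [key, finrank_tr]
    · right
      exact ⟨h1, by rw [cm_conj, finrank_tr, h2]⟩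

end

end Cfsg.Agent.H708.O8
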