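import Cfsg.Agent.H708.O8.Sep
import Cfsg.Agent.H989.Cov.O8

/-!
# COV-O8+: subgroups meeting two of the classes (helper708)
-/

set_option autoImplicit false
set_option linter.unusedSectionVars false

namespace Cfsg.Agent.H708.O8

open Module QuadraticMap Cfsg Cfsg.Geo Cfsg.Agent.LieClassical.OrthCore Cfsg.Agent.H955 Cfsg.Agent.H954.TSing
open Cfsg.Agent.LieClassical.OmegaReindex
open Cfsg.Agent.H951 (fx cm Inv)
open Cfsg.Agent.H884.El
open Cfsg.Agent.H436 (Prim)
open Cfsg.Agent.H264.FKS (Cyc mem_zpowers_of_cyclic)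
open scoped MatrixGroups Matrix

section

variable {F : Type} [Field F] [Fintype F] {p a r b s : ℕ}

instance finite_T8 : Finite (T8 F) := Quotient.finite _

/-- the order of the image of an element of order prime to two -/
theorem orderOf_pj {x : OO F} (hx : Odd (orderOf x)) : orderOf (pj F x) = orderOf x := by
  apply Nat.dvd_antisymm (orderOf_map_dvd _ _)
  have h1 : pj F (x ^ orderOf (pj F x)) = 1 := by rw [map_pow, pow_orderOf_eq_one]
  have h2 := center_sq8 h1
  rw [← pow_mul] at h2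
  exact (Nat.Coprime.dvd_of_dvd_mul_right (Nat.Coprime.symm (Nat.coprime_two_left.2 hx))
    (orderOf_dvd_of_pow_eq_one h2))

theorem orderOf_vl (x : OO F) : orderOf (vl F x) = orderOf x := orderOf_injective _ vl_injective x

/-- the elements of `R` of orders `r` and `r ^ b` -/
theorem TypeB.exists_pow (h : RB p a r b) {y : OO F} {X Y : Submodule F (I8 → F)} (hB : TypeB (vl F y) X Y r b) :
    ∃ m n : ℕ, orderOf (pj F y ^ m) = r ^ b ∧ orderOf (pj F y ^ n) = r := by
  obtain ⟨m, -, h1, h2⟩ := hB.m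
  have hr := h.prim.prime
  have := Fact.mk hr
  have hb := h.b1
  have hodd : Odd r := hr.odd_of_ne_two (by have := h.five; omega)
  have e1 : (y ^ m) ^ (r ^ b) = 1 := by
    apply vl_injective
    rw [map_pow, map_pow, map_one, ← pow_mul, mul_comm, h1]
  have e2 : ¬ (y ^ m) ^ (r ^ (b - 1)) = 1 := by
    intro h0
    have h3 : (vl F y) ^ (r ^ (b - 1) * m) = 1 := by
      rw [mul_comm, pow_mul, ← map_pow, ← map_pow, h0, map_one]
    rw [h3, lin_one'] at h2
    have h4 : cm (1 : Module.End F (I8 → F)) = ⊥ := by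
      unfold H951.cm
      rw [sub_self, LinearMap.range_zero]
    rw [h4] at h2
    have h5 := congrArg (fun W : Submodule F (I8 → F) => finrank F W) h2
    simp only [finrank_top, finrank_bot] at h5
    rw [finrank_V] at h5
    simp at h5
  have e3 : orderOf (y ^ m) = r ^ b := by
    obtain ⟨c, rfl⟩ := Nat.exists_eq_add_of_le hb
    rw [Nat.add_sub_cancel_left] at e2
    rw [add_comm] at e1 ⊢
    exact orderOf_eq_prime_pow e2 e1
  have e4 : orderOf (pj F (y ^ m)) = r ^ b := by rw [orderOf_pj (by rw [e3]; exact hodd.pow), e3]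
  refine ⟨m, m * r ^ (b - 1), by rw [← map_pow, e4], ?_⟩
  rw [pow_mul, orderOf_pow' _ (pow_ne_zero _ hr.ne_zero), ← map_pow, e4]
  obtain ⟨c, rfl⟩ := Nat.exists_eq_add_of_le hb
  rw [Nat.add_sub_cancel_left, Nat.gcd_eq_right (pow_dvd_pow r (by omega)), pow_add, pow_one,
    Nat.mul_div_cancel _ (pow_pos hr.pos _)]

theorem TypeA.exists_pow (h : RB p a r b) {x : OO F} {u w : GL I8 F} (hx : vl F x = u * w) (hA : TypeA u w r s) :
    ∃ n : ℕ, vl F x ^ n = u ∧ orderOf (pj F x ^ n) = r := by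
  have hr := h.prim.prime
  have := Fact.mk hr
  have hodd : Odd r := hr.odd_of_ne_two (by have := h.five; omega)
  obtain ⟨k, hk1, hk2⟩ := Nat.chineseRemainder hA.cop 1 0
  have hcom : Commute u w := hA.comm
  have e1 : u ^ k = u := by
    have h1 : k ≡ 1 [MOD orderOf u] := by rw [orderOf_eq_prime hA.u_pow hA.u_ne]; exact hk1
    have := (pow_eq_pow_iff_modEq (x := u)).2 h1
    rwa [pow_one] at this
  have e2 : w ^ k = 1 := by
    obtain ⟨c, hc⟩ := (Nat.modEq_zero_iff_dvd.1 hk2)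
    rw [hc, pow_mul, hA.w_pow, one_pow]
  have e3 : vl F x ^ k = u := by rw [hx, hcom.mul_pow, e1, e2, mul_one]
  refine ⟨k, e3, ?_⟩
  have e4 : orderOf (x ^ k) = r := by
    rw [← orderOf_vl, map_pow, e3]
    exact orderOf_eq_prime hA.u_pow hA.u_ne
  rw [← map_pow, orderOf_pj (by rw [e4]; exact hodd), e4]

/-- the Sylow `r`-subgroups are not cyclic -/
theorem not_cyc (h : RB p a r b) {R : Subgroup (T8 F)} {x y : T8 F} (hx : x ∈ R) (hy : y ∈ R) (hs : SepE r x y)
    {i l : ℕ} (hi : orderOf (x ^ i) = r) (hl : orderOf (y ^ l) = r) : ¬ Cyc r R := by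
  intro hR
  have := Fact.mk h.prim.prime
  obtain ⟨c, j, hc⟩ := hR.exists_conj (a := (⟨x ^ i, R.pow_mem hx i⟩ : R)) (b := (⟨y ^ l, R.pow_mem hy l⟩ : R))
    (by rw [Subgroup.orderOf_mk, hi]) (by rw [Subgroup.orderOf_mk, hl])
  exact hs c i l j hi hl (congrArg Subtype.val hc).symm

theorem card_dvd_of_not_cyc (h : RB p a r b) {R : Subgroup (T8 F)} (hR : ¬ Cyc r R) {y : T8 F} (hy : y ∈ R)
    (hyo : orderOf y = r ^ b) : r ^ (b + 1) ∣ Nat.card R := by
  have := Fact.mk h.prim.prime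
  have hP : IsPGroup r (Subgroup.zpowers (⟨y, hy⟩ : R)) :=
    IsPGroup.of_card (n := b) (by rw [Nat.card_zpowers, Subgroup.orderOf_mk, hyo])
  obtain ⟨Q, hQ⟩ := hP.exists_le_sylow
  obtain ⟨n, hn⟩ := IsPGroup.iff_card.1 Q.isPGroup'
  have h1 : ¬ n ≤ b := by
    intro hnb
    have h2 : Subgroup.zpowers (⟨y, hy⟩ : R) = (Q : Subgroup R) := by
      apply Subgroup.eq_of_le_of_card_ge hQ
      rw [hn, Nat.card_zpowers, Subgroup.orderOf_mk, hyo]
      exact Nat.pow_le_pow_right h.prim.prime.pos hnb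
    apply hR
    refine Cyc.of_sylow ⟨Q, ?_⟩
    rw [← h2]
    infer_instance
  exact (pow_dvd_pow r (by omega)).trans (hn ▸ Subgroup.card_subgroup_dvd_card (Q : Subgroup R))

/-- an element of order `r` of the preimage, `dim [V, g] = 4` -/
theorem exists_four_pre (h : RB p a r b) (hF : Nat.card F = p ^ a) {R : Subgroup (T8 F)} (hR : ¬ Cyc r R) :
    ∃ g ∈ pre (quadFormPlus 4 F) R, g ^ r = 1 ∧ finrank F (cm (lin g)) = 4 := by
  have := Fact.mk h.prim.prime
  let M : Subgroup (OO F) := R.comap (pj F)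
  have hM : ¬ Cyc r M := by
    intro hM
    apply hR
    let f : M →* R := (pj F).subgroupComap R
    have hf : Function.Surjective f := by
      rintro ⟨y, hy⟩
      obtain ⟨x, rfl⟩ := pj_surjective y
      exact ⟨⟨x, hy⟩, rfl⟩
    exact hM.of_surjective f hf
  unfold Cyc at hM
  push Not at hM
  obtain ⟨P, hP, hPc⟩ := hM
  let f : M →* GL I8 F := (vl F).comp M.subtype
  have hf : Function.Injective f := fun _ _ e => Subtype.ext (vl_injective e)
  have h1 : ¬ IsCyclic (P.map f) := by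
    intro hc
    exact hPc (isCyclic_of_injective ((P.equivMapOfInjective f hf).toMonoidHom)
      (P.equivMapOfInjective f hf).injective)
  obtain ⟨g, hg, hgr, -, hgd⟩ := H989.Cov.O8.exists_four hF h (hP.map f) h1
  obtain ⟨x, hx, rfl⟩ := hg
  exact ⟨f x, mem_pre8.2 x.2, hgr, hgd⟩

end

end Cfsg.Agent.H708.O8
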