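import Cfsg.Agent.H708.O8.Main
import Cfsg.Agent.H109.O8.SmallTwo
import Cfsg.Agent.H304.O8.SmallThree

/-!
# COV-O8+: `PΩ⁺₈(q)` is not the union of the conjugates of two proper subgroups, all `q` (helper708)
-/

set_option autoImplicit false

namespace Cfsg.Agent.H708.O8

open Cfsg Cfsg.Geo Cfsg.Agent.H278.Cov

/-- **`PΩ⁺₈(q)`**, all `q`. -/
theorem noTwo (hKn : ∀ (X : Type) [Group X] [Finite X] [IsSimpleGroup X], Cfsg.IsKnownSimple' X)
    (F : Type) [Field F] [Fintype F] : NoTwo (POmega F (quadFormPlus 4 F)) := by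
  refine noTwo_of hKn F ?_ ?_
  · intro hF R S hSn hSs hna hC P hP e hL x y hx hy ox oy sep h25
    have := hP.simple
    exact H109.O8.small_two hF S hSs hna hC hP e hL hx hy ox oy sep h25 (hKn _)
  · intro hF R S hSn hSs hna hC P hP e hL x y hx hy ox oy sep h25
    have := hP.simple
    exact H304.O8.small_three hF S hSs hna hC hP e hL hx hy ox oy sep h25 (hKn _)

end Cfsg.Agent.H708.O8
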