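import Cfsg.Agent.H708.O8.Par
import Cfsg.Agent.H834.O8.Symp
import Cfsg.Agent.H781.O8.Subf

/-!
# COV-O8+: the geometric classes (helper708)
-/

set_option autoImplicit false
set_option linter.unusedSectionVars false

namespace Cfsg.Agent.H708.O8

open Module QuadraticMap Cfsg Cfsg.Geo Cfsg.Agent.LieClassical.OrthCore Cfsg.Agent.H955 Cfsg.Agent.H954.TSing
open Cfsg.Agent.LieClassical.OmegaReindex
open Cfsg.Agent.H951 (fx cm Inv)
open Cfsg.Agent.H884.El
open Cfsg.Agent.H436 (Prim)
open scoped MatrixGroups Matrix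

section

variable {F : Type} [Field F] [Fintype F] {p a r b : ℕ}

theorem RB.five (h : RB p a r b) : 5 ≤ r := by
  rcases h.cases with h | h | h <;> omega

theorem RB.b1 (h : RB p a r b) : 1 ≤ b := by
  rcases h.cases with h | h | h <;> omega

theorem RB.pp (h : RB p a r b) : PP p (4 * a) r := by
  refine ⟨h.prim.prime, ?_⟩
  have hp := h.hp
  have : Fact r.Prime := ⟨h.prim.prime⟩
  have h0 : (p : ZMod r) ≠ 0 := fun h0 => h.prim.not_dvd ((ZMod.natCast_eq_zero_iff _ _).1 h0)
  have key : ∀ m, r ∣ p ^ m - 1 ↔ orderOf (p : ZMod r) ∣ m := fun m =>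
    Cfsg.Agent.Lib.Zsigmondy.dvd_pow_sub_one_iff hp.one_lt.le m
  exact Nat.dvd_antisymm ((key _).1 ((h.prim.dvd_iff _).2 dvd_rfl)) ((h.prim.dvd_iff _).1 ((key _).2 dvd_rfl))

theorem RB.ppF (h : RB p a r b) (hF : Nat.card F = p ^ a) : PP (Nat.card F) 4 r := by
  rw [hF]
  have := h.pp
  rw [mul_comm] at this
  exact this.of_pow h.ha

/-- the element of order `r` -/
theorem TypeB.exists_r (h : RB p a r b) {x : GL I8 F} {X Y : Submodule F (I8 → F)} (hB : TypeB x X Y r b) :
    ∃ n : ℕ, (x ^ n) ^ r = 1 ∧ cm (lin (x ^ n)) = ⊤ := by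
  obtain ⟨m, -, h1, h2⟩ := hB.m
  refine ⟨r ^ (b - 1) * m, ?_, h2⟩
  rw [← pow_mul, ← h1]
  congr 1
  have hb := h.b1
  obtain ⟨c, rfl⟩ := Nat.exists_eq_add_of_le hb
  rw [Nat.add_sub_cancel_left, pow_add, pow_one]
  ring

theorem inv_pow {V : Type*} [AddCommGroup V] [Module F V] {x : Module.End F V} {W : Submodule F V} (h : Inv x W)
    (n : ℕ) : Inv (x ^ n) W := by
  induction n with
  | zero => intro w hw; exact hw
  | succ n ih =>
    intro w hw
    rw [pow_succ', Module.End.mul_apply]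
    exact h _ (ih w hw)

theorem lin_pow (g : GL I8 F) (n : ℕ) : lin (g ^ n) = lin g ^ n := by
  induction n with
  | zero => rw [pow_zero, pow_zero, lin_one']
  | succ n ih => rw [pow_succ, pow_succ, lin_mul, ih]

theorem TypeB.cases_of_inv {x : GL I8 F} {X Y : Submodule F (I8 → F)} (hB : TypeB x X Y r b)
    {W : Submodule F (I8 → F)} (hW : Inv (lin x) W) : W = ⊥ ∨ W = X ∨ W = Y ∨ W = ⊤ :=
  hB.only W (by rw [lin_pow]; exact inv_pow hW 2)

theorem TypeB.finrank_cases {x : GL I8 F} {X Y : Submodule F (I8 → F)} (hB : TypeB x X Y r b)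
    {W : Submodule F (I8 → F)} (hW : Inv (lin (x ^ 2)) W) (h0 : W ≠ ⊥) (h1 : W ≠ ⊤) :
    finrank F W = 4 ∧ ∀ v ∈ W, quadFormPlus 4 F v = 0 := by
  rcases hB.only W hW with h | rfl | rfl | h
  · exact absurd h h0
  · exact ⟨hB.dimX, hB.tsX⟩
  · exact ⟨hB.dimY, hB.tsY⟩
  · exact absurd h h1

/-- elements fix both members of a decomposition into two subspaces, squares -/
theorem fix_of_sq {H : Subgroup (GL I8 F)} {D : Fin 2 → Submodule F (I8 → F)} (hHD : H ≤ decompositionStabilizer D)
    {g : GL I8 F} (hg : g ∈ H) {k : ℕ} (hk : ∀ τ : Equiv.Perm (Fin 2), τ ^ k = 1) (i : Fin 2) :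
    Inv (lin (g ^ k)) (D i) := by
  have hmap : ∀ j : ℕ, ∀ σ : Equiv.Perm (Fin 2),
      (∀ i, (D i).map (Matrix.toLin' (g : Matrix I8 I8 F)) = D (σ i)) →
      ∀ i, (D i).map (Matrix.toLin' ((g ^ j : GL I8 F) : Matrix I8 I8 F)) = D ((σ ^ j) i) := by
    intro j σ hσ
    induction j with
    | zero => intro i; simp
    | succ j ih =>
      intro i
      rw [pow_succ', Units.val_mul, Matrix.toLin'_mul, Submodule.map_comp, ih, hσ, pow_succ', Equiv.Perm.mul_apply]
  obtain ⟨σ, hσ⟩ := hHD hg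
  have h5 := hmap k σ hσ i
  rw [hk, Equiv.Perm.one_apply] at h5
  rw [H951.inv_iff_map]
  exact h5.le

/-- a general permutation version -/
theorem map_pow_eq {H : Subgroup (GL I8 F)} {t : ℕ} {D : Fin t → Submodule F (I8 → F)}
    (hHD : H ≤ decompositionStabilizer D) {g : GL I8 F} (hg : g ∈ H) :
    ∃ σ : Equiv.Perm (Fin t), ∀ (j : ℕ) (i : Fin t),
      (D i).map (Matrix.toLin' ((g ^ j : GL I8 F) : Matrix I8 I8 F)) = D ((σ ^ j) i) := by
  obtain ⟨σ, hσ⟩ := hHD hg
  refine ⟨σ, fun j => ?_⟩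
  induction j with
  | zero => intro i; simp
  | succ j ih =>
    intro i
    rw [pow_succ', Units.val_mul, Matrix.toLin'_mul, Submodule.map_comp, ih, hσ, pow_succ', Equiv.Perm.mul_apply]

/-- an element of order `r` fixes a member of a decomposition into `t` members if `r ∤ t` -/
theorem exists_fixed_block {H : Subgroup (GL I8 F)} {t : ℕ} {D : Fin t → Submodule F (I8 → F)}
    (hinj : Function.Injective D) (hHD : H ≤ decompositionStabilizer D) {g : GL I8 F} (hg : g ∈ H) (hr : r.Prime)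
    (hgr : g ^ r = 1) (hrt : ¬ r ∣ t) : ∃ i, Inv (lin g) (D i) := by
  obtain ⟨σ, hσ⟩ := map_pow_eq hHD hg
  have hσr : σ ^ r = 1 := by
    refine Equiv.ext fun i => hinj ?_
    rw [← hσ r i, hgr, Units.val_one, Matrix.toLin'_one, Submodule.map_id, Equiv.Perm.one_apply]
  have := Fact.mk hr
  have h1 := Equiv.Perm.card_compl_support_modEq (σ := σ) (p := r) (n := 1) (by rw [pow_one]; exact hσr)
  rw [Fintype.card_fin] at h1
  have h2 : (σ.support)ᶜ.card ≠ 0 := by
    intro h0
    rw [h0] at h1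
    exact hrt (Nat.modEq_zero_iff_dvd.1 h1.symm)
  obtain ⟨i, hi⟩ := Finset.card_pos.1 (Nat.pos_of_ne_zero h2)
  refine ⟨i, ?_⟩
  rw [Finset.mem_compl, Equiv.Perm.notMem_support] at hi
  rw [H951.inv_iff_map]
  have h3 := hσ 1 i
  rw [pow_one, pow_one, hi] at h3
  exact h3.le

/-- the `r`-part of `|GL₂(q)| |GL₄(q)|` -/
theorem tensor_num (hF : Nat.card F = p ^ a) (h : RB p a r b) :
    ¬ r ^ (b + 1) ∣ Nat.card (GL (Fin 2) F) * Nat.card (GL (Fin 4) F) := by
  intro hd
  have hq : Nat.card F = Fintype.card F := Nat.card_eq_fintype_card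
  have hPP := h.ppF hF
  set q := Fintype.card F with hqdef
  have hq1 : 1 < q := Fintype.one_lt_card
  rw [hq] at hPP
  have hrp := hPP.prime
  have hrq : ¬ r ∣ q := hPP.not_dvd (by norm_num)
  have h1 : ¬ r ∣ q ^ 1 - 1 := fun h => by have := (hPP.dvd_iff hq1.le 1).1 h; omega
  have h2 : ¬ r ∣ q ^ 2 - 1 := fun h => by have := (hPP.dvd_iff hq1.le 2).1 h; omega
  have h3 : ¬ r ∣ q ^ 3 - 1 := fun h => by have := (hPP.dvd_iff hq1.le 3).1 h; omega
  have e4 : q ^ 4 - 1 = (q ^ 2 - 1) * (q ^ 2 + 1) := by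
    have := Nat.sq_sub_sq (q ^ 2) 1
    rw [one_pow, ← pow_mul] at this
    rw [show 4 = 2 * 2 by norm_num, this, mul_comm]
  have f : ∀ i j : ℕ, q ^ (i + j) - q ^ i = q ^ i * (q ^ j - 1) := fun i j => by
    rw [pow_add, Nat.mul_sub, mul_one]
  rw [Matrix.card_GL_field, Matrix.card_GL_field, Fin.prod_univ_two, Fin.prod_univ_four, ← hqdef] at hd
  simp only [Fin.isValue, Fin.coe_ofNat_eq_mod, Nat.reduceMod, pow_zero] at hd
  rw [show (q ^ 2 - q ^ 1) = q ^ 1 * (q ^ 1 - 1) from f 1 1, show (q ^ 4 - q ^ 1) = q ^ 1 * (q ^ 3 - 1) from f 1 3,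
    show (q ^ 4 - q ^ 2) = q ^ 2 * (q ^ 2 - 1) from f 2 2, show (q ^ 4 - q ^ 3) = q ^ 3 * (q ^ 1 - 1) from f 3 1,
    e4] at hd
  have hc : ∀ n : ℕ, ¬ r ∣ n → Nat.Coprime (r ^ (b + 1)) n := fun n hn =>
    Nat.Coprime.pow_left _ ((Nat.Prime.coprime_iff_not_dvd hrp).2 hn)
  have hcq := hc q hrq
  have c1 := hc _ h1
  have c2 := hc _ h2
  have c3 := hc _ h3
  have hd' : r ^ (b + 1) ∣ (q ^ 2 + 1) * ((q ^ 2 - 1) * (q ^ 1 * (q ^ 1 - 1)) * ((q ^ 2 - 1) * (q ^ 1 * (q ^ 3 - 1)) *
      (q ^ 2 * (q ^ 2 - 1)) * (q ^ 3 * (q ^ 1 - 1)))) := by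
    convert hd using 1
    ring
  have hd2 := Nat.Coprime.dvd_of_dvd_mul_right (Nat.Coprime.mul_right
    (Nat.Coprime.mul_right c2 (Nat.Coprime.mul_right (hcq.pow_right 1) c1))
    (Nat.Coprime.mul_right (Nat.Coprime.mul_right (Nat.Coprime.mul_right c2 (Nat.Coprime.mul_right (hcq.pow_right 1) c3))
      (Nat.Coprime.mul_right (hcq.pow_right 2) c2)) (Nat.Coprime.mul_right (hcq.pow_right 3) c1))) hd'
  apply h.not_dvd
  rw [mul_comm 2 a, pow_mul, ← hF, hq]
  exact hd2

/-- **The geometric classes.** -/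
theorem geo (hF : Nat.card F = p ^ a) (h : RB p a r b) {H : Subgroup (GL I8 F)}
    (hH : H ≤ isometryGroup F (quadFormPlus 4 F)) (hr2 : r ^ (b + 1) ∣ Nat.card H)
    {g : GL I8 F} (hg : g ∈ H) (hgr : g ^ r = 1) (hgd : finrank F (cm (lin g)) = 4)
    {x : GL I8 F} {X Y : Submodule F (I8 → F)} (hB : TypeB x X Y r b) (hx : x ∈ H) :
    InOrthogonalResidualClass H ∨ ∃ K : Subalgebra F (Matrix I8 I8 F), IsFieldSubalgebra 2 K ∧
      IsAdjointClosedFor (polar (quadFormPlus 4 F)) K ∧ H ≤ subalgebraNormalizer K := by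
  have hQ : Nondeg (quadPlus 4 F) := nondeg_iff.2 quadPlus_nondegenerate
  have hcoe : ⇑(quadPlus 4 F) = quadFormPlus 4 F := coe_quadPlus 4 F
  have hn : Fintype.card (Fin 4 ⊕ Fin 4) = 8 := by simp
  have hfin : finrank F (Fin 4 ⊕ Fin 4 → F) = 8 := by rw [finrank_V, hn]
  have hfin' : finrank F (I8 → F) = 8 := hfin
  have h5 := h.five
  have hP := h.ppF hF
  rw [← hcoe] at hH
  have hrc : r ∣ Nat.card H := (dvd_pow_self r (by omega)).trans hr2
  have hg1 : g ≠ 1 := by
    rintro rfl
    rw [lin_one'] at hgd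
    have : cm (1 : Module.End F (I8 → F)) = ⊥ := by
      unfold H951.cm
      rw [sub_self, LinearMap.range_zero]
    rw [this, finrank_bot] at hgd
    omega
  have hgiso : Iso (quadPlus 4 F) (lin g) r := Iso.mk' hP (by omega)
    (by rw [← lin_pow, hgr]; exact lin_one') (lin_iso hH hg)
  obtain ⟨n, hnr, hncm⟩ := hB.exists_r h
  have hyH : x ^ n ∈ H := H.pow_mem hx n
  have hyiso : Iso (quadPlus 4 F) (lin (x ^ n)) r := Iso.mk' hP (by omega)
    (by rw [← lin_pow, hnr]; exact lin_one') (lin_iso hH hyH)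
  have hyfx : fx (lin (x ^ n)) = ⊥ := by
    have h1 : finrank F (fx (lin (x ^ n))) + finrank F (cm (lin (x ^ n))) = 8 := hyiso.finrank_add.trans hfin'
    rw [hncm, finrank_top, hfin'] at h1
    exact Submodule.finrank_eq_zero.1 (by omega)
  have hgadd : finrank F (fx (lin g)) = 4 := by
    have h1 : finrank F (fx (lin g)) + finrank F (cm (lin g)) = 8 := hgiso.finrank_add.trans hfin'
    rw [hgd] at h1
    omega
  -- a totally singular subspace invariant under `g` has dimension at most three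
  have hts : ∀ W : Submodule F (I8 → F), TS (quadPlus 4 F) W → Inv (lin g) W → finrank F W ≠ 4 := by
    intro W hWs hW hd
    have h1 := hgiso.ts_le hQ (lin_ne_one hg1) hP hgd hW hWs
    have h3 : W = fx (lin g) := Submodule.eq_of_le_of_finrank_eq h1 (by omega)
    refine ts_not_nondeg hWs h3.ge ?_ (nondeg_fx hQ hgiso.iso hgiso.ne0 hgiso.pow)
    rw [← h3]
    intro h4
    rw [h4, finrank_bot] at hd
    omega
  -- proper subspaces invariant under `x²`
  have hxW : ∀ W : Submodule F (I8 → F), Inv (lin (x ^ 2)) W → W ≠ ⊥ → W ≠ ⊤ → finrank F W = 4 ∧ TS (quadPlus 4 F) W := by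
    intro W hW h0 h1
    obtain ⟨h2, h3⟩ := hB.finrank_cases hW h0 h1
    rw [← hcoe] at h3
    exact ⟨h2, h3⟩
  have hx2 : x ^ 2 ∈ H := H.pow_mem hx 2
  by_cases hirr : ActsIrreducibly (matrixSet H)
  · rcases Cfsg.Agent.H925.orth_irreducible_fine (by omega) (Cfsg.Agent.H884.OddForm.isNondegenerate_of_nondeg _ hQ) hH hirr with
      ⟨t, k, D, htk, hD, hHD, -⟩ | ⟨k, D, hk, hD, hDs, hHD⟩ | ⟨s, K, hs, hsn, hK, hadj, hHK⟩ |
      ⟨n₁, n₂, e, P, -, -, -, h1, h1', h12, -, -, -, -, hHT⟩ | ⟨F₁, s, B, -, -, hs, hcard, -, -, hHF⟩ |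
      ⟨s, m, R, hRH, -, hHR, habs, hR, hchar, hm, hsm, -, ht, -⟩ | ⟨k, t, e, P, E, hkt, hW⟩ | hS
    · exfalso
      have h2t := hD.decomp.decomp.two_le
      have hkpos := hD.decomp.decomp.pos
      have hinj : Function.Injective D := by
        intro i j hij
        by_contra hne
        have h1 := disjoint_iff.1 (hD.decomp.decomp.indep.pairwiseDisjoint hne)
        have h2 : D i ⊓ D j = ⊥ := h1
        rw [← hij, inf_idem] at h2
        have h3 := hD.decomp.decomp.finrank_eq i
        rw [h2, finrank_bot] at h3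
        omega
      by_cases hk4 : k < 4
      · have hrt := decomp_le hD.decomp.decomp hHD hP hk4 hrc
        -- `k = 1`, `t = 8`
        have hk1 : k = 1 := by
          by_contra hcon
          have h3 : 2 ≤ k := by omega
          have := Nat.mul_le_mul hrt h3
          omega
        subst hk1
        obtain ⟨i, hi⟩ := exists_fixed_block hinj hHD hyH hP.prime hnr (by
          intro hd
          rw [show t = 2 ^ 3 by omega] at hd
          have := (Nat.prime_dvd_prime_iff_eq hP.prime Nat.prime_two).1 (hP.prime.dvd_of_dvd_pow hd)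
          omega)
        have h3 := hyiso.le_fx hP hi (by rw [hD.decomp.decomp.finrank_eq]; norm_num)
        rw [hyfx] at h3
        have h4 := hD.decomp.decomp.finrank_eq i
        rw [le_bot_iff.1 h3, finrank_bot] at h4
        omega
      · have ht2 : t = 2 := by
          have h3 : t < 3 := by
            by_contra hcon
            push Not at hcon
            have := Nat.mul_le_mul hcon (not_lt.1 hk4)
            omega
          omega
        subst ht2
        have hk4' : k = 4 := by omega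
        have h3 := nondeg_of_on (hD.decomp.nondegenerate 0)
        have h4 := fix_of_sq hHD hx (k := 2) (by decide) 0
        have hd0 := hD.decomp.decomp.finrank_eq 0
        have h6 := hxW (D 0) h4 (by intro h0; rw [h0, finrank_bot] at hd0; omega)
          (by intro h0; rw [h0, finrank_top] at hd0; omega)
        exact ts_not_nondeg h6.2 le_rfl (by intro h0; rw [h0, finrank_bot] at hd0; omega) h3
    · exfalso
      have hodd : ∀ τ : Equiv.Perm (Fin 2), τ ^ (2 * (r / 2)) = 1 := fun τ => by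
        rw [pow_mul]
        have : τ ^ 2 = 1 := by revert τ; decide
        rw [this, one_pow]
      -- `g` is a power of `g²`
      have h1 := fix_of_sq hHD hg (k := r + 1) (fun τ => by
        have h2 : Even (r + 1) := (hP.prime.odd_of_ne_two (by omega)).add_one
        obtain ⟨c, hc⟩ := h2
        rw [hc, ← two_mul, pow_mul]
        have : τ ^ 2 = 1 := by revert τ; decide
        rw [this, one_pow]) 0
      rw [pow_succ, hgr, one_mul] at h1
      exact hts (D 0) (hDs 0) h1 (by rw [hD.finrank_eq]; omega)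
    · right
      rw [hn] at hsn
      have hs2 : s = 2 := by
        have : s ∣ 2 ^ 3 := hsn
        exact (Nat.prime_dvd_prime_iff_eq hs Nat.prime_two).1 (hs.dvd_of_dvd_pow this)
      subst hs2
      rw [hcoe] at hadj
      exact ⟨K, hK, hadj, hHK⟩
    · exfalso
      have h2 : tensorProductSubgroup n₁ n₂ e P ≤ (kronGL e P).range := fun g hg => mem_range_kronGL e P hg
      have h3 : Nat.card H ∣ Nat.card (GL (Fin n₁) F × GL (Fin n₂) F) :=
        (Subgroup.card_dvd_of_le (hHT.trans h2)).trans (Subgroup.card_range_dvd _)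
      rw [Nat.card_prod] at h3
      have hcases : (n₁ = 2 ∧ n₂ = 4) ∨ (n₁ = 4 ∧ n₂ = 2) := by
        have h3 : n₁ ≤ 4 := by
          by_contra hcon
          push Not at hcon
          have := Nat.mul_le_mul hcon h1'
          omega
        interval_cases n₁ <;> omega
      rcases hcases with ⟨rfl, rfl⟩ | ⟨rfl, rfl⟩
      · exact tensor_num hF h (hr2.trans h3)
      · rw [mul_comm] at h3
        exact tensor_num hF h (hr2.trans h3)
    · exfalso
      exact H781.O8.kill_subf hF h hHF hs hcard hg hgr hgd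
    · exfalso
      exact kill_symp hF h hRH hHR habs hR hm hsm ht ((pow_dvd_pow r (by have := h.b1; omega)).trans hr2)
    · exfalso
      have h2k := hW.two_le_m
      have h2t := hW.two_le_t
      have hk3 : k < 3 := by
        by_contra hcon
        push Not at hcon
        have h3 : 3 ^ 2 ≤ k ^ t := (Nat.pow_le_pow_left hcon 2).trans (Nat.pow_le_pow_right (by omega) h2t)
        omega
      have ht4 : t < 4 := by
        by_contra hcon
        push Not at hcon
        have h3 : 2 ^ 4 ≤ k ^ t := (Nat.pow_le_pow_left h2k 4).trans (Nat.pow_le_pow_right (by omega) hcon)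
        omega
      rcases H251.GeoCard.wreath e P hP.prime (hP.not_dvd (by omega))
        (hrc.trans (Subgroup.card_dvd_of_le hW.wreath)) with h | h
      · omega
      · have := le_of_div hP (one_lt_q F).le h
        omega
    · exact Or.inl hS
  · exfalso
    rcases Cfsg.Agent.H925.reducible_cases (Cfsg.Agent.H884.OddForm.isNondegenerate_of_nondeg _ hQ) hH hirr with
      ⟨W, hW0, hWs, hHW⟩ | ⟨W, hW0, hWn, hd, hHW⟩ | ⟨-, v, hv, hHW⟩
    · have h1 : W ≠ ⊤ := by
        rintro rfl
        have h2 := hgiso.ts_le hQ (lin_ne_one hg1) hP hgd (inv_of_mem (hHW hg)) hWs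
        have h3 := Submodule.finrank_mono h2
        rw [finrank_top, hgadd, hfin'] at h3
        omega
      obtain ⟨h2, h3⟩ := hxW W (inv_of_mem (hHW hx2)) hW0 h1
      exact hts W hWs (inv_of_mem (hHW hg)) h2
    · have h1 : W ≠ ⊤ := by
        rintro rfl
        rw [finrank_top] at hd
        omega
      obtain ⟨h2, h3⟩ := hxW W (inv_of_mem (hHW hx2)) hW0 h1
      exact ts_not_nondeg h3 le_rfl hW0 (nondeg_of_on hWn)
    · have hv0 : v ≠ 0 := by
        rintro rfl
        exact hv (QuadraticMap.map_zero _)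
      have hs1 := finrank_span_singleton (K := F) hv0
      have h1 : Submodule.span F {v} ≠ ⊤ := by
        intro h0
        rw [h0, finrank_top, hfin'] at hs1
        omega
      have h0 : Submodule.span F {v} ≠ ⊥ := by
        intro h0
        rw [h0, finrank_bot] at hs1
        omega
      exact absurd (hs1.symm.trans (hxW _ (inv_of_mem (hHW hx2)) h0 h1).1) (by norm_num)

end

end Cfsg.Agent.H708.O8
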