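import Cfsg.Agent.H708.O8.Core
import Cfsg.Agent.H659.O8.Own
import Cfsg.Agent.H781.O8.FieldA
import Cfsg.Agent.H375.O8.TypeA
import Cfsg.Agent.H375.O8.TypeB
import Cfsg.Agent.H105.O8.Cross

/-!
# COV-O8+: `PΩ⁺₈(q)` is not the union of the conjugates of two proper subgroups (helper708)
-/

set_option autoImplicit false
set_option linter.unusedSectionVars false

namespace Cfsg.Agent.H708.O8

open Module QuadraticMap Cfsg Cfsg.Geo Cfsg.Agent.LieClassical.OrthCore Cfsg.Agent.H955 Cfsg.Agent.H954.TSing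
open Cfsg.Agent.LieClassical.OmegaReindex Cfsg.Agent.H915.LD
open Cfsg.Agent.H951 (fx cm Inv)
open Cfsg.Agent.H884.El
open Cfsg.Agent.H436 (Prim)
open Cfsg.Agent.H264.FKS (Cyc mem_zpowers_of_cyclic)
open Cfsg.Agent.H278.Cov
open scoped MatrixGroups Matrix

section

variable {F : Type} [Field F] [Fintype F] {p a r b s : ℕ}

/-- the residual step for `q = 2` -/
def SmallTwo (F : Type) [Field F] [Fintype F] : Prop :=
  Nat.card F = 2 → ∀ (R : Subgroup (T8 F)) (S : Subgroup R), S.Normal → IsSimpleGroup S → ¬ IsMulCommutative S →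
    Subgroup.centralizer (S : Set R) = ⊥ → ∀ P : Subgroup (GL I8 F), IsResidualCore (pre (quadFormPlus 4 F) R) P →
    (S ≃* Soc P) → ¬ IsLieTypeChar 2 (Soc P) → ∀ x y : T8 F, x ∈ R → y ∈ R → orderOf x = 15 → orderOf y = 15 →
    (∀ (c : T8 F) (j : ℤ), c * (x ^ 3) ^ j * c⁻¹ ≠ y ^ 3) → 25 ∣ Nat.card R → False

/-- the residual step for `q = 3` -/
def SmallThree (F : Type) [Field F] [Fintype F] : Prop :=
  Nat.card F = 3 → ∀ (R : Subgroup (T8 F)) (S : Subgroup R), S.Normal → IsSimpleGroup S → ¬ IsMulCommutative S →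
    Subgroup.centralizer (S : Set R) = ⊥ → ∀ P : Subgroup (GL I8 F), IsResidualCore (pre (quadFormPlus 4 F) R) P →
    (S ≃* Soc P) → ¬ IsLieTypeChar 3 (Soc P) → ∀ x y : T8 F, x ∈ R → y ∈ R → (orderOf x = 15 ∨ orderOf x = 20) →
    orderOf y = 20 → (∀ (c : T8 F) (j : ℤ), c * (x ^ (orderOf x / 5)) ^ j * c⁻¹ ≠ y ^ 4) → 25 ∣ Nat.card R → False

theorem RB.small (h : RB p a r b) (hq : p ^ a = 2 ∨ p ^ a = 3) : r = 5 ∧ b = 1 := by
  have hp := h.hp
  have ha : a = 1 ∧ (p = 2 ∨ p = 3) := by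
    have h1 : 2 ≤ p := hp.two_le
    have ha := h.ha
    have : a < 2 := by
      by_contra hcon
      push Not at hcon
      have h2 : p ^ 2 ≤ p ^ a := Nat.pow_le_pow_right (by omega) hcon
      have h3 : 2 ^ 2 ≤ p ^ 2 := Nat.pow_le_pow_left h1 2
      omega
    have : a = 1 := by omega
    subst this
    rw [pow_one] at hq
    exact ⟨rfl, hq⟩
  obtain ⟨rfl, hp3⟩ := ha
  rcases h.cases with ⟨h13, -⟩ | ⟨-, -, h7, -⟩ | ⟨h1, h2, -, -⟩
  · exfalso
    have h1 := (h.prim.dvd_iff 4).2 (by norm_num)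
    rcases hp3 with rfl | rfl
    · have := Nat.le_of_dvd (by norm_num) h1
      norm_num at this
      have hr := h.prim.prime
      interval_cases r <;> revert h1 hr <;> decide
    · norm_num at h1
      have hr := h.prim.prime
      have h2 : r ∣ 2 ^ 4 * 5 := h1
      rcases (hr.dvd_mul.1 h2) with h3 | h3
      · have := Nat.le_of_dvd (by norm_num) (hr.dvd_of_dvd_pow h3)
        omega
      · have := Nat.le_of_dvd (by norm_num) h3
        omega
  · omega
  · exact ⟨h1, h2⟩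

/-- orders in `PΩ` for `q = 2, 3` -/
theorem TypeB.order_two {y : OO F} {X Y : Submodule F (I8 → F)} (hB : TypeB (vl F y) X Y r b) (h2 : Nat.card F = 2) :
    orderOf (pj F y) = 15 := by
  have h1 := hB.ord.1 h2
  rw [orderOf_vl] at h1
  rw [orderOf_pj (by rw [h1]; decide), h1]

theorem TypeB.order_three {y : OO F} {X Y : Submodule F (I8 → F)} (hB : TypeB (vl F y) X Y r b) (h3 : Nat.card F = 3) :
    orderOf (pj F y) = 20 := by
  obtain ⟨h1, h2⟩ := hB.ord.2 h3
  rw [orderOf_vl] at h1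
  apply Nat.dvd_antisymm
  · apply orderOf_dvd_of_pow_eq_one
    rw [← map_pow]
    refine (QuotientGroup.eq_one_iff (y ^ 20)).2 (Subgroup.mem_center_iff.2 fun g => vl_injective ?_)
    rw [map_mul, map_mul, map_pow]
    apply Units.ext
    rw [Units.val_mul, Units.val_mul, h2, mul_neg, mul_one, neg_mul, one_mul]
  · have h4 : pj F (y ^ orderOf (pj F y)) = 1 := by rw [map_pow, pow_orderOf_eq_one]
    have h5 := center_sq8 h4
    rw [← pow_mul] at h5
    have h6 := orderOf_dvd_of_pow_eq_one h5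
    rw [h1] at h6
    omega

theorem TypeA.order_small {x : OO F} {u w : GL I8 F} (hx : vl F x = u * w) (hA : TypeA u w 5 s)
    (hF : Nat.card F = 2 ∨ Nat.card F = 3) : orderOf (pj F x) = 15 := by
  obtain ⟨rfl, hw⟩ := hA.ord hF
  have hcom : Commute u w := hA.comm
  have h5 : Fact (Nat.Prime 5) := ⟨by norm_num⟩
  have h3 : Fact (Nat.Prime 3) := ⟨by norm_num⟩
  have h1 : orderOf x = 15 := by
    rw [← orderOf_vl, hx, hcom.orderOf_mul_eq_mul_orderOf_of_coprime, orderOf_eq_prime hA.u_pow hA.u_ne,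
      orderOf_eq_prime hA.w_pow hw]
    rw [orderOf_eq_prime hA.u_pow hA.u_ne, orderOf_eq_prime hA.w_pow hw]
    norm_num
  rw [orderOf_pj (by rw [h1]; decide), h1]

/-- **No proper subgroup** contains an element of type `B` and an element `x` separated from it (under the conditions of
the small cases and if there is no quadratic field). -/
theorem main_pair (hKn : ∀ (X : Type) [Group X] [Finite X] [IsSimpleGroup X], Cfsg.IsKnownSimple' X)
    (hs2 : SmallTwo F) (hs3 : SmallThree F)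
    (hF : Nat.card F = p ^ a) (h : RB p a r b) {R : Subgroup (T8 F)} (hR : R ≠ ⊤) {x y : OO F}
    (hx : pj F x ∈ R) (hy : pj F y ∈ R) (hsep : SepE r (pj F x) (pj F y)) {i : ℕ} (hi : orderOf (pj F x ^ i) = r)
    {X Y : Submodule F (I8 → F)} (hB : TypeB (vl F y) X Y r b)
    (hK : ∀ K : Subalgebra F (Matrix I8 I8 F), IsFieldSubalgebra 2 K →
      IsAdjointClosedFor (polar (quadFormPlus 4 F)) K → pre (quadFormPlus 4 F) R ≤ subalgebraNormalizer K → False)
    (h2 : Nat.card F = 2 → orderOf (pj F x) = 15)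
    (h3 : Nat.card F = 3 → orderOf (pj F x) = 15 ∨ orderOf (pj F x) = 20) : False := by
  obtain ⟨m, n, hm, hn⟩ := hB.exists_pow h
  have hcyc := not_cyc h hx hy hsep hi hn
  have hcard := card_dvd_of_not_cyc h hcyc (R.pow_mem hy m) hm
  obtain ⟨g, hg, hgr, hgd⟩ := exists_four_pre h hF hcyc
  rcases geo hF h (pre_le (Q := quadFormPlus 4 F) (M := R)) (hcard.trans card_dvd_pre) hg hgr hgd hB (mem_pre8.2 hy) with
    ⟨P, hP, -⟩ | ⟨K, hK1, hK2, hK3⟩
  · obtain ⟨S, hSn, hSs, hna, hC, ⟨e⟩⟩ := H264.FKS.exists_res_plus le_rfl (M := R) hP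
    by_cases hL : IsLieTypeChar p (Soc P)
    · exact H659.O8.own_card hF h hR S hSs hna hC hP e hL hcard
    · rcases Nat.lt_or_ge (p ^ a) 4 with h4 | h4
      · have hq : 1 < Nat.card F := Finite.one_lt_card
        have hq2 : p ^ a = 2 ∨ p ^ a = 3 := by omega
        obtain ⟨rfl, rfl⟩ := h.small hq2
        have ha : a = 1 := by
          rcases h.cases with h1 | h1 | h1 <;> omega
        subst ha
        rw [pow_one] at hq2 hF
        have h25 : 25 ∣ Nat.card R := hcard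
        rcases hq2 with rfl | rfl
        · have o1 := h2 hF
          have o2 := hB.order_two hF
          refine hs2 hF R S hSn hSs hna hC P hP e hL _ _ hx hy o1 o2 (fun c j => hsep c 3 3 j ?_ ?_) h25
          · rw [orderOf_pow' _ (by norm_num), o1]; norm_num
          · rw [orderOf_pow' _ (by norm_num), o2]; norm_num
        · have o1 := h3 hF
          have o2 := hB.order_three hF
          refine hs3 hF R S hSn hSs hna hC P hP e hL _ _ hx hy o1 o2 (fun c j => hsep c (orderOf (pj F x) / 5) 4 j ?_ ?_) h25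
          · rcases o1 with o1 | o1 <;> rw [orderOf_pow' _ (by rw [o1]; norm_num), o1] <;> norm_num
          · rw [orderOf_pow' _ (by norm_num), o2]; norm_num
      · have := hP.simple
        exact H105.O8.cross_card hF h4 h S hSs hna hC hP e hL (hKn (Soc P)) hcard
  · exact hK K hK1 hK2 hK3

/-- conjugates -/
theorem exists_lift {R : Subgroup (T8 F)} {x : OO F} (h : ¬ Av (pj F x) R) : ∃ c : OO F, pj F (c * x * c⁻¹) ∈ R := by
  obtain ⟨g, hg⟩ := not_av h
  obtain ⟨c, rfl⟩ := pj_surjective g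
  exact ⟨c, by rw [map_mul, map_mul, map_inv]; exact hg⟩

theorem vl_conj (c x : OO F) : vl F (c * x * c⁻¹) = vl F c * vl F x * (vl F c)⁻¹ := by
  rw [map_mul, map_mul, map_inv]

theorem inc_AB (hKn : ∀ (X : Type) [Group X] [Finite X] [IsSimpleGroup X], Cfsg.IsKnownSimple' X)
    (hs2 : SmallTwo F) (hs3 : SmallThree F) (hF : Nat.card F = p ^ a) (h : RB p a r b) {x y : OO F} {u w : GL I8 F} (hx : vl F x = u * w)
    (hA : TypeA u w r s) {X Y : Submodule F (I8 → F)} (hB : TypeB (vl F y) X Y r b) : Inc (pj F x) (pj F y) := by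
  intro R hR
  by_contra hcon
  push Not at hcon
  obtain ⟨c, hc⟩ := exists_lift hcon.1
  obtain ⟨d, hd⟩ := exists_lift hcon.2
  have hB' := hB.conj (vl_iso d)
  rw [← vl_conj] at hB'
  have hA' := hA.conj (vl_iso c)
  have hx' : vl F (c * x * c⁻¹) = vl F c * u * (vl F c)⁻¹ * (vl F c * w * (vl F c)⁻¹) := by
    rw [vl_conj, hx]; group
  obtain ⟨n, hn1, hn2⟩ := hA'.exists_pow h hx'
  have hxH : vl F (c * x * c⁻¹) ∈ pre (quadFormPlus 4 F) R := mem_pre8.2 hc
  have hu : vl F c * u * (vl F c)⁻¹ ∈ pre (quadFormPlus 4 F) R := by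
    rw [← hn1]
    exact Subgroup.pow_mem _ hxH n
  have hw : vl F c * w * (vl F c)⁻¹ ∈ pre (quadFormPlus 4 F) R := by
    have h1 : vl F c * w * (vl F c)⁻¹ = (vl F c * u * (vl F c)⁻¹)⁻¹ * vl F (c * x * c⁻¹) := by
      rw [hx']; group
    rw [h1]
    exact Subgroup.mul_mem _ (Subgroup.inv_mem _ hu) hxH
  refine main_pair hKn hs2 hs3 hF h hR hc hd (sep_AB h hF hx' hA' hB') hn2 hB' (fun K hK1 hK2 hK3 => ?_) (fun h2 => ?_) fun h3 => ?_
  · exact H781.O8.kill_field_A hF h hK1 hK2 pre_le hK3 hA' hu hw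
  · have h5 := (h.small (Or.inl (hF ▸ h2))).1
    subst h5
    exact hA'.order_small hx' (Or.inl h2)
  · have h5 := (h.small (Or.inr (hF ▸ h3))).1
    subst h5
    exact Or.inl (hA'.order_small hx' (Or.inr h3))

theorem inc_BB (hKn : ∀ (X : Type) [Group X] [Finite X] [IsSimpleGroup X], Cfsg.IsKnownSimple' X)
    (hs2 : SmallTwo F) (hs3 : SmallThree F) (hF : Nat.card F = p ^ a) (h : RB p a r b) {x y : OO F}
    (hx : TypeB (vl F x) (tr (rho F) (XX F)) (tr (rho F) (YY F)) r b) (hy : TypeB (vl F y) (XX F) (YY F) r b) :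
    Inc (pj F x) (pj F y) := by
  intro R hR
  by_contra hcon
  push Not at hcon
  obtain ⟨c, hc⟩ := exists_lift hcon.1
  obtain ⟨d, hd⟩ := exists_lift hcon.2
  have hx' := hx.conj (vl_iso c)
  have hy' := hy.conj (vl_iso d)
  rw [← vl_conj] at hx' hy'
  have hodd : ∀ e : OO F, Odd (finrank F ↥(tr (vl F d) (XX F) ⊓ tr (vl F e) (tr (vl F c) (tr (rho F) (XX F))))) := by
    intro e
    have h1 := odd_inter (vl_mem (d⁻¹ * e * c))
    have h2 := finrank_tr (vl F d) (XX F ⊓ tr (vl F (d⁻¹ * e * c) * rho F) (XX F))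
    rw [tr_inf, ← tr_mul, ← mul_assoc, ← map_mul, show d * (d⁻¹ * e * c) = e * c by group] at h2
    rw [← tr_mul, ← tr_mul, ← map_mul, h2]
    exact h1
  obtain ⟨m, n, -, hn⟩ := hx'.exists_pow h
  refine main_pair hKn hs2 hs3 hF h hR hc hd (sep_BB h hF hx' hy' hodd) hn hy' (fun K hK1 hK2 hK3 => ?_)
    (fun h2 => hx'.order_two h2) fun h3 => Or.inr (hx'.order_three h3)
  refine kill_field_B hK1 hK3 hy' hx' (mem_pre8.2 hd) (mem_pre8.2 hc) ?_
  have := hodd 1
  rwa [map_one, tr_one] at this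

/-- **`PΩ⁺₈(q)` is not the union of the conjugates of two proper subgroups** (modulo the residual steps for
`q = 2, 3`). -/
theorem noTwo_of (hKn : ∀ (X : Type) [Group X] [Finite X] [IsSimpleGroup X], Cfsg.IsKnownSimple' X) (F : Type) [Field F] [Fintype F]
    (hs2 : SmallTwo F) (hs3 : SmallThree F) : NoTwo (POmega F (quadFormPlus 4 F)) := by
  obtain ⟨p, hp⟩ := CharP.exists F
  obtain ⟨a, hpp, ha⟩ := FiniteField.card F p
  have hF : Nat.card F = p ^ (a : ℕ) := by rw [Nat.card_eq_fintype_card, ha]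
  obtain ⟨r, b, h⟩ := H989.Cov.O8.exists_rb hpp a.pos
  obtain ⟨x, hx⟩ : ∃ x, TypeB (F := F) x (XX F) (YY F) r b := by
    obtain ⟨x, h1, h2, h3, h4, h5, h6, h7, h8, h9, h10, h11⟩ :=
      H375.O8.exists_typeB_aux hF h.hp h.ha h.prim h.b1 h.dvd h.not_dvd (X := XX F) (Y := YY F)
        (fun _ => Iff.rfl) fun _ => Iff.rfl
    exact ⟨x, ⟨h1, h2, h3, h4, h5, h6, h7, h8, h9, h10, h11⟩⟩
  obtain ⟨u, w, s, hA⟩ : ∃ u w s, TypeA (F := F) u w r s := by
    obtain ⟨u, w, s, h1, h2, h3, h4, h5, h6, h7, h8, h9, h10, h11, h12⟩ :=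
      H375.O8.exists_typeA_aux hF h.hp h.ha h.prim
    exact ⟨u, w, s, ⟨h1, h2, h3, h4, h5, h6, h7, h8, h9, h10, h11, h12⟩⟩
  have hx3 := hx.conj rho_mem
  obtain ⟨x2, rfl⟩ := exists_vl hx.mem
  obtain ⟨x3, hx3'⟩ := exists_vl hx3.mem
  rw [← hx3'] at hx3
  -- `u w` lies in `Ω`
  have hodd : Odd (r * s) := (h.prim.prime.odd_of_ne_two (by have := h.five; omega)).mul hA.odd
  have hcom : Commute u w := hA.comm
  obtain ⟨x1, hx1⟩ : ∃ x1 : OO F, vl F x1 = u * w := by
    apply exists_vl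
    have h1 : ∀ g ∈ isometryGroup F (⇑(quadPlus 4 F)), g ^ (r * s) = 1 → g ∈ omegaGL (⇑(quadPlus 4 F)) := by
      intro g hg hgo
      obtain ⟨x, rfl⟩ := exists_omega (data_plus le_rfl) hg hodd hgo
      exact Subgroup.mem_map.2 ⟨x, x.2, rfl⟩
    rw [coe_quadPlus] at h1
    refine h1 _ (mul_mem hA.u_mem hA.w_mem) ?_
    rw [hcom.mul_pow, pow_mul, hA.u_pow, one_pow, one_mul, mul_comm, pow_mul, hA.w_pow, one_pow]
  exact noTwo_of_three (inc_AB hKn hs2 hs3 hF h hx1 hA hx) (inc_BB hKn hs2 hs3 hF h hx3 hx).symm (inc_AB hKn hs2 hs3 hF h hx1 hA hx3)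

/-- **`PΩ⁺₈(q)`, `q ≥ 4`.** -/
theorem noTwo_ge (hKn : ∀ (X : Type) [Group X] [Finite X] [IsSimpleGroup X], Cfsg.IsKnownSimple' X) (F : Type) [Field F] [Fintype F]
    (h4 : 4 ≤ Nat.card F) : NoTwo (POmega F (quadFormPlus 4 F)) :=
  noTwo_of hKn F (fun h => by omega) fun h => by omega

end

end Cfsg.Agent.H708.O8
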