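import Cfsg.Agent.H708.O8.Conj

/-!
# COV-O8+: lifts from `PΩ` to `Ω`, separation of the elements of order `r` (helper708)
-/

set_option autoImplicit false
set_option linter.unusedSectionVars false

namespace Cfsg.Agent.H708.O8

open Module QuadraticMap Cfsg Cfsg.Geo Cfsg.Agent.LieClassical.OrthCore Cfsg.Agent.H955 Cfsg.Agent.H954.TSing
open Cfsg.Agent.LieClassical.OmegaReindex
open Cfsg.Agent.H951 (fx cm Inv)
open Cfsg.Agent.H884.El
open Cfsg.Agent.H436 (Prim)
open Cfsg.Agent.H264.FKS (Cyc mem_zpowers_of_cyclic)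
open scoped MatrixGroups Matrix

section

variable {F : Type} [Field F] [Fintype F] {p a r b s : ℕ}

/-- `Ω` -/
abbrev OO (F : Type) [Field F] : Subgroup (isometryGroup F (quadFormPlus 4 F)) := Omega F (quadFormPlus 4 F)

/-- the projection -/
noncomputable def pj (F : Type) [Field F] [Fintype F] : OO F →* T8 F := QuotientGroup.mk' (Subgroup.center (OO F))

/-- the inclusion -/
def vl (F : Type) [Field F] : OO F →* GL I8 F := (isometryGroup F (quadFormPlus 4 F)).subtype.comp (OO F).subtype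

theorem pj_surjective : Function.Surjective (pj F) := QuotientGroup.mk'_surjective _

theorem vl_injective : Function.Injective (vl F) := fun _ _ h => Subtype.ext (Subtype.ext h)

theorem vl_mem (x : OO F) : vl F x ∈ omegaGL (quadFormPlus 4 F) := ⟨x, x.2, rfl⟩

theorem vl_iso (x : OO F) : vl F x ∈ isometryGroup F (quadFormPlus 4 F) := (x : isometryGroup F (quadFormPlus 4 F)).2

theorem exists_vl {g : GL I8 F} (hg : g ∈ omegaGL (quadFormPlus 4 F)) : ∃ x : OO F, vl F x = g := by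
  obtain ⟨x, hx, rfl⟩ := Subgroup.mem_map.1 hg
  exact ⟨⟨x, hx⟩, rfl⟩

theorem mem_pre8 {R : Subgroup (T8 F)} {x : OO F} : vl F x ∈ pre (quadFormPlus 4 F) R ↔ pj F x ∈ R := mem_pre

theorem center_sq8 {z : OO F} (hz : pj F z = 1) : z ^ 2 = 1 := by
  have h : ∀ g : Omega F (⇑(quadPlus 4 F)), g ∈ Subgroup.center (Omega F (⇑(quadPlus 4 F))) → g ^ 2 = 1 :=
    fun g hg => H390.Lift.center_sq (data_plus le_rfl) g hg
  rw [coe_quadPlus] at h
  exact h z ((QuotientGroup.eq_one_iff z).1 hz)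

theorem center_comm {z : OO F} (hz : pj F z = 1) (x : OO F) : x * z = z * x :=
  Subgroup.mem_center_iff.1 ((QuotientGroup.eq_one_iff z).1 hz) x

/-- lifts of elements of order `r` -/
theorem lift_pow (hr : Odd r) {x : OO F} (hx : pj F x ^ r = 1) :
    (x ^ (r + 1)) ^ r = 1 ∧ pj F (x ^ (r + 1)) = pj F x := by
  have h1 : pj F (x ^ r) = 1 := by rw [map_pow, hx]
  have h2 := center_sq8 h1
  constructor
  · obtain ⟨k, hk⟩ := hr
    rw [← pow_mul, show (r + 1) * r = r * 2 * (k + 1) by rw [hk]; ring, pow_mul, pow_mul, h2, one_pow]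
  · rw [map_pow, pow_succ, hx, one_mul]

/-- equal images of elements of odd order -/
theorem eq_of_pj (hr : Odd r) {x y : OO F} (hx : x ^ r = 1) (hy : y ^ r = 1) (h : pj F x = pj F y) : x = y := by
  have h1 : pj F (x * y⁻¹) = 1 := by rw [map_mul, map_inv, h, mul_inv_cancel]
  have h2 := center_sq8 h1
  have h3 := center_comm h1
  set z := x * y⁻¹ with hz
  have h4 : x = z * y := by rw [hz, inv_mul_cancel_right]
  have h5 : z ^ r = 1 := by
    have h6 : (z * y) ^ r = z ^ r * y ^ r := (show Commute z y from (h3 y).symm).mul_pow r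
    rw [← h4, hx, hy, mul_one] at h6
    exact h6.symm
  obtain ⟨k, hk⟩ := hr
  have h7 : z = 1 := by
    rw [hk, pow_succ, pow_mul, h2, one_pow, one_mul] at h5
    exact h5
  rw [h4, h7, one_mul]

/-- an equation of conjugates in `T` lifts to `GL`. -/
theorem lift_eq (hr : Odd r) {x y : OO F} (hx : x ^ r = 1) (hy : y ^ r = 1) (c : OO F) (j : ℤ)
    (h : pj F c * pj F x ^ j * (pj F c)⁻¹ = pj F y) : vl F c * vl F x ^ j * (vl F c)⁻¹ = vl F y := by
  have h1 : c * x ^ j * c⁻¹ = y := by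
    refine eq_of_pj hr ?_ hy ?_
    · rw [conj_pow, ← zpow_natCast, ← zpow_mul, mul_comm, zpow_mul, zpow_natCast, hx, one_zpow, mul_one, mul_inv_cancel]
    · rw [map_mul, map_mul, map_inv, map_zpow, h]
  rw [← h1, map_mul, map_mul, map_inv, map_zpow]

theorem lin_mem_fx {g : GL I8 F} {v : I8 → F} : v ∈ fx (lin g) ↔ lin g v = v := H951.mem_fx

theorem fx_pow_le (g : GL I8 F) (n : ℕ) : fx (lin g) ≤ fx (lin (g ^ n)) := by
  intro v hv
  rw [lin_mem_fx] at hv ⊢
  induction n with
  | zero => rw [pow_zero, lin_one']; rfl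
  | succ n ih => rw [pow_succ, lin_mul, Module.End.mul_apply, hv, ih]

theorem fx_inv_le (g : GL I8 F) : fx (lin g) ≤ fx (lin g⁻¹) := by
  intro v hv
  rw [lin_mem_fx] at hv ⊢
  conv_lhs => rw [← hv]
  exact lin_inv_lin g v

theorem fx_zpow_le (g : GL I8 F) (j : ℤ) : fx (lin g) ≤ fx (lin (g ^ j)) := by
  obtain ⟨n, rfl | rfl⟩ := j.eq_nat_or_neg
  · rw [zpow_natCast]; exact fx_pow_le g n
  · rw [zpow_neg, zpow_natCast]; exact (fx_pow_le g n).trans (fx_inv_le _)

/-- every power of order `r` of an element of type `B` is fixed point free. -/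
theorem TypeB.fx_eq (h : RB p a r b) (hF : Nat.card F = p ^ a) {x : GL I8 F} {X Y : Submodule F (I8 → F)}
    (hB : TypeB x X Y r b) {l : ℕ} (hl : (x ^ l) ^ r = 1) (hl1 : x ^ l ≠ 1) : fx (lin (x ^ l)) = ⊥ := by
  obtain ⟨n, hn, hcm⟩ := hB.exists_r h
  have hr := h.prim.prime
  have hP := h.ppF hF
  have hfin : finrank F (I8 → F) = 8 := by
    rw [finrank_V]
    simp
  -- `x ^ n` is fixed point free
  have hiso : Iso (quadPlus 4 F) (lin (x ^ n)) r := Iso.mk' hP (by omega)
    (by rw [← lin_pow, hn]; exact lin_one') (fun v => by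
      rw [coe_quadPlus]
      have h1 : x ^ n ∈ isometryGroup F (quadFormPlus 4 F) := by
        obtain ⟨y, rfl⟩ := exists_vl hB.mem
        rw [← map_pow]
        exact vl_iso _
      exact (mem_iso F).1 h1 v)
  have hfx : fx (lin (x ^ n)) = ⊥ := by
    have h1 : finrank F (fx (lin (x ^ n))) + finrank F (cm (lin (x ^ n))) = 8 := hiso.finrank_add.trans hfin
    rw [hcm, finrank_top, hfin] at h1
    exact Submodule.finrank_eq_zero.1 (by omega)
  have hn1 : x ^ n ≠ 1 := by
    intro h0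
    rw [h0, lin_one'] at hfx
    have : fx (1 : Module.End F (I8 → F)) = ⊤ := by
      unfold H951.fx
      rw [sub_self, LinearMap.ker_zero]
    rw [this] at hfx
    have h2 := congrArg (fun W : Submodule F (I8 → F) => finrank F W) hfx
    simp only [finrank_top, finrank_bot] at h2
    omega
  have := Fact.mk hr
  have o1 : orderOf (⟨x ^ l, Subgroup.npow_mem_zpowers x l⟩ : Subgroup.zpowers x) = r := by
    rw [Subgroup.orderOf_mk]
    exact orderOf_eq_prime hl hl1
  have o2 : orderOf (⟨x ^ n, Subgroup.npow_mem_zpowers x n⟩ : Subgroup.zpowers x) = r := by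
    rw [Subgroup.orderOf_mk]
    exact orderOf_eq_prime hn hn1
  obtain ⟨j, hj⟩ := mem_zpowers_of_cyclic o1 o2 hr.pos
  have hj' : (x ^ l) ^ j = x ^ n := congrArg Subtype.val hj
  rw [eq_bot_iff, ← hfx, ← hj']
  exact fx_zpow_le _ j

/-- separation property: no power of order `r` of `x` is conjugate to a power of a power of order `r` of `y` -/
def SepE (r : ℕ) (x y : T8 F) : Prop :=
  ∀ (c : T8 F) (i l : ℕ) (j : ℤ), orderOf (x ^ i) = r → orderOf (y ^ l) = r → c * (x ^ i) ^ j * c⁻¹ ≠ y ^ l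

theorem sep_AB (h : RB p a r b) (hF : Nat.card F = p ^ a) {x y : OO F} {u w : GL I8 F} (hxA : vl F x = u * w)
    (hA : TypeA u w r s) {X Y : Submodule F (I8 → F)} (hB : TypeB (vl F y) X Y r b) : SepE r (pj F x) (pj F y) := by
  intro c i l j hi hl hc
  have hP := h.ppF hF
  have hr := h.prim.prime
  have hodd : Odd r := hr.odd_of_ne_two (by have := h.five; omega)
  obtain ⟨c, rfl⟩ := pj_surjective c
  -- lifts of order `r`
  obtain ⟨h1, h2⟩ := lift_pow hodd (x := x ^ i) (by rw [map_pow, ← hi, pow_orderOf_eq_one])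
  obtain ⟨h3, h4⟩ := lift_pow hodd (x := y ^ l) (by rw [map_pow, ← hl, pow_orderOf_eq_one])
  have h5 := lift_eq hodd h1 h3 c j (by rw [h2, h4, map_pow, map_pow]; exact hc)
  -- the lift of `x`
  have h6 : vl F ((x ^ i) ^ (r + 1)) = u ^ (i * (r + 1)) := by
    have hcom : Commute u w := hA.comm
    have e1 : vl F ((x ^ i) ^ (r + 1)) = u ^ (i * (r + 1)) * w ^ (i * (r + 1)) := by
      rw [← pow_mul, map_pow, hxA, hcom.mul_pow]
    have e2 : (w ^ (i * (r + 1))) ^ r = 1 := by
      have e3 : vl F ((x ^ i) ^ (r + 1)) ^ r = 1 := by rw [← map_pow, h1, map_one]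
      rw [e1, ((hcom.pow_pow _ _).mul_pow _), ← pow_mul, mul_comm _ r, pow_mul, hA.u_pow, one_pow, one_mul] at e3
      exact e3
    have e4 : (w ^ (i * (r + 1))) ^ s = 1 := by rw [← pow_mul, mul_comm, pow_mul, hA.w_pow, one_pow]
    have e5 : orderOf (w ^ (i * (r + 1))) ∣ Nat.gcd r s :=
      Nat.dvd_gcd (orderOf_dvd_of_pow_eq_one e2) (orderOf_dvd_of_pow_eq_one e4)
    rw [hA.cop.gcd_eq_one, Nat.dvd_one, orderOf_eq_one_iff] at e5
    rw [e1, e5, mul_one]
  -- the lift of `y`
  have h7 : vl F ((y ^ l) ^ (r + 1)) = (vl F y) ^ (l * (r + 1)) := by rw [← pow_mul, map_pow]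
  have h8 : fx (lin ((vl F y) ^ (l * (r + 1)))) = ⊥ := by
    refine hB.fx_eq h hF ?_ ?_
    · rw [← h7, ← map_pow, h3, map_one]
    · intro h0
      rw [← h7] at h0
      have e1 : (y ^ l) ^ (r + 1) = 1 := vl_injective (by rw [h0, map_one])
      have e2 : pj F y ^ l = 1 := by rw [← map_pow, ← h4, e1, map_one]
      rw [e2, orderOf_one] at hl
      have := h.five
      omega
  rw [h6, h7] at h5
  -- the fixed space of `u`
  have h9 : fx (lin u) ≤ fx (lin ((u ^ (i * (r + 1))) ^ j)) := (fx_pow_le u _).trans (fx_zpow_le _ j)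
  have hiso : Iso (quadPlus 4 F) (lin u) r := Iso.mk' hP (by omega)
    (by rw [← lin_pow, hA.u_pow]; exact lin_one') (fun v => by
      rw [coe_quadPlus]
      exact (mem_iso F).1 hA.u_mem v)
  have hfin : finrank F (I8 → F) = 8 := by
    rw [finrank_V]
    simp
  have h10 : finrank F (fx (lin u)) = 4 := by
    have h1 : finrank F (fx (lin u)) + finrank F (cm (lin u)) = 8 := hiso.finrank_add.trans hfin
    rw [hA.u_dim] at h1
    omega
  have h11 : tr (vl F c) (fx (lin u)) ≤ ⊥ := by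
    rw [← h8, ← h5]
    intro v hv
    rw [mem_fx_tr]
    exact h9 (mem_tr.1 hv)
  have h12 := finrank_tr (vl F c) (fx (lin u))
  rw [le_bot_iff.1 h11, finrank_bot, h10] at h12
  omega

/-- two elements of type `B` -/
theorem sep_BB (h : RB p a r b) (hF : Nat.card F = p ^ a) {x y : OO F}
    {X Y X' Y' : Submodule F (I8 → F)} (hx : TypeB (vl F x) X Y r b) (hy : TypeB (vl F y) X' Y' r b)
    (hodd : ∀ c : OO F, Odd (finrank F ↥(X' ⊓ tr (vl F c) X))) : SepE r (pj F x) (pj F y) := by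
  intro c i l j hi hl hc
  have hP := h.ppF hF
  have hr := h.prim.prime
  have hro : Odd r := hr.odd_of_ne_two (by have := h.five; omega)
  obtain ⟨c, rfl⟩ := pj_surjective c
  obtain ⟨h1, h2⟩ := lift_pow hro (x := x ^ i) (by rw [map_pow, ← hi, pow_orderOf_eq_one])
  obtain ⟨h3, h4⟩ := lift_pow hro (x := y ^ l) (by rw [map_pow, ← hl, pow_orderOf_eq_one])
  have h5 := lift_eq hro h1 h3 c j (by rw [h2, h4, map_pow, map_pow]; exact hc)
  have h6 : vl F ((x ^ i) ^ (r + 1)) = (vl F x) ^ (i * (r + 1)) := by rw [← pow_mul, map_pow]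
  have h7 : vl F ((y ^ l) ^ (r + 1)) = (vl F y) ^ (l * (r + 1)) := by rw [← pow_mul, map_pow]
  have h7r : (vl F y ^ (l * (r + 1))) ^ r = 1 := by rw [← h7, ← map_pow, h3, map_one]
  have h8 : fx (lin ((vl F y) ^ (l * (r + 1)))) = ⊥ := by
    refine hy.fx_eq h hF h7r ?_
    · intro h0
      rw [← h7] at h0
      have e1 : (y ^ l) ^ (r + 1) = 1 := vl_injective (by rw [h0, map_one])
      have e2 : pj F y ^ l = 1 := by rw [← map_pow, ← h4, e1, map_one]
      rw [e2, orderOf_one] at hl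
      have := h.five
      omega
  rw [h6, h7] at h5
  -- invariant subspaces
  have hinv1 : Inv (lin ((vl F y) ^ (l * (r + 1)))) X' := by rw [lin_pow]; exact inv_pow hy.invX _
  have hinvz : ∀ {g : GL I8 F} {W : Submodule F (I8 → F)}, Inv (lin g) W → g ^ r = 1 → ∀ j : ℤ, Inv (lin (g ^ j)) W := by
    intro g W hW hg j
    have : g ^ j = g ^ (j % (r : ℤ)).toNat := by
      rw [← zpow_natCast, Int.toNat_of_nonneg (Int.emod_nonneg _ (by have := h.five; omega))]
      conv_lhs => rw [← Int.emod_add_mul_ediv j r, zpow_add, zpow_mul, zpow_natCast, hg, one_zpow, mul_one]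
    rw [this, lin_pow]
    exact inv_pow hW _
  have hinv2 : Inv (lin ((vl F y) ^ (l * (r + 1)))) (tr (vl F c) X) := by
    rw [← h5]
    refine inv_conj.2 (hinvz ?_ ?_ j)
    · rw [lin_pow]; exact inv_pow hx.invX _
    · rw [← h6, ← map_pow, h1, map_one]
  have hiso : Iso (quadPlus 4 F) (lin ((vl F y) ^ (l * (r + 1)))) r := Iso.mk' hP (by omega)
    (by rw [← lin_pow, h7r]; exact lin_one') (fun v => by
      rw [coe_quadPlus, ← h7]
      exact (mem_iso F).1 (vl_iso _) v)
  have := Fact.mk hr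
  have hord := H951.ord_dvd_finrank hiso.pow (W := X' ⊓ tr (vl F c) X)
    (fun w hw => ⟨hinv1 w hw.1, hinv2 w hw.2⟩) (by rw [h8, inf_bot_eq])
  have hPr : orderOf (Fintype.card F : ZMod r) = 4 := ord_eq hP
  rw [hPr] at hord
  obtain ⟨k, hk⟩ := hodd c
  omega

end

end Cfsg.Agent.H708.O8
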